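import Groth.Agent.Lib.TFOne.Generic
import Groth.Agent.Lib.ParBun.Proper
import Groth.Agent.Lib.Curves.Positivity
import Groth.Agent.Lib.TopDim.Basic
import Groth.Agent.Lib.Curves.GlobalSections

/-!
# Euler characteristics of torsion-free quotients on subcurves
-/

set_option autoImplicit false
universe u

open CategoryTheory Limits AlgebraicGeometry Opposite TopologicalSpace

namespace Groth.Agent.Lib.TFOne.Euler

open Groth.Agent.Lib

/-- A Noetherian space whose components have dimension one has dimension at most one. -/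
theorem dim_le {α : Type u} [TopologicalSpace α] [NoetherianSpace α]
    (hpure : ∀ C ∈ irreducibleComponents α, topologicalKrullDim C = 1) :
    topologicalKrullDim α ≤ 1 := by
  have : Finite (irreducibleComponents α) :=
    NoetherianSpace.finite_irreducibleComponents.to_subtype
  rw [TopDim.Basic.topologicalKrullDim_eq_iSup_of_locallyFinite
    (fun C : irreducibleComponents α => (C : Set α))
    (fun C => isClosed_of_mem_irreducibleComponents (C : Set α) C.2) (locallyFinite_of_finite _)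
    (Set.eq_univ_of_forall fun x => Set.mem_iUnion.mpr
      ⟨⟨_, irreducibleComponent_mem_irreducibleComponents x⟩, mem_irreducibleComponent⟩)]
  exact iSup_le fun C => (hpure C C.2).le

variable {k : Type u} [Field k] {X : Scheme.{u}} [X.Over (Spec (CommRingCat.of k))]

/-- A sheaf on a curve with vanishing generic stalks has non-negative Euler characteristic. -/
theorem euler_nonneg [NoetherianSpace X] (hdim : topologicalKrullDim X ≤ 1) {Q : X.Modules}
    (h : ∀ η ∈ genericPoints X, Subsingleton (Q.presheaf.stalk η)) :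
    0 ≤ Curv2.euler k X Q := by
  have hT : Curves.Positivity.IsTorsion Q := fun x hx => h x hx
  rw [hT.euler hdim]
  positivity

variable [IsProper (X ↘ Spec (CommRingCat.of k))]

theorem euler_biprod {A B : X.Modules} (hA : Coh.IsCoh A) (hB : Coh.IsCoh B) :
    Curv2.euler k X (A ⊞ B) = Curv2.euler k X A + Curv2.euler k X B :=
  ParBun.Proper.euler_add (S := ShortComplex.mk (biprod.inl : A ⟶ A ⊞ B) biprod.snd biprod.inl_snd)
    (ShortComplex.Splitting.ofHasBinaryBiproduct A B).shortExact hA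
    (CohBasics.Closure.isCoh_biprod hA hB) hB

omit [X.Over (Spec (CommRingCat.of k))] [IsProper (X ↘ Spec (CommRingCat.of k))] in
theorem exists_union_data [IsReduced X] [IsLocallyNoetherian X]
    {M : X.Modules}
    (hM : TFOne.IsTF1 X M) {Y Z W : Set X} (hY : IsClosed Y) (hZ : IsClosed Z)
    (hW : W = ⋃₀ {C | C ∈ irreducibleComponents (X : Type u) ∧ C ⊆ Y ∩ Z})
    {GY GZ GU GW : X.Modules} {πY : M ⟶ GY} {πZ : M ⟶ GZ} {πU : M ⟶ GU} {πW : M ⟶ GW}
    (hGY : TFOne.IsQuotOn X M Y GY πY) (hGZ : TFOne.IsQuotOn X M Z GZ πZ)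
    (hGU : TFOne.IsQuotOn X M (Y ∪ Z) GU πU) (hGW : TFOne.IsQuotOn X M W GW πW) :
    ∃ C : X.Modules, Coh.IsCoh C ∧ (∀ η ∈ genericPoints X, Subsingleton (C.presheaf.stalk η)) ∧
      ∀ F : X.Modules → ℤ, (∀ (S : ShortComplex X.Modules), S.ShortExact → Coh.IsCoh S.X₁ →
          Coh.IsCoh S.X₂ → Coh.IsCoh S.X₃ → F S.X₂ = F S.X₁ + F S.X₃) →
        F GY + F GZ = F GU + F GW + F C := by
  have hWY : W ⊆ Y := hW ▸ Set.sUnion_subset fun C hC x hx => (hC.2 hx).1
  have hWZ : W ⊆ Z := hW ▸ Set.sUnion_subset fun C hC x hx => (hC.2 hx).2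
  have hmeet : ∀ η ∈ genericPoints X, η ∈ Y → η ∈ Z → η ∈ W := fun η hη h1 h2 =>
    hW ▸ ⟨closure {η}, ⟨hη, Set.subset_inter
      (closure_minimal (Set.singleton_subset_iff.mpr h1) hY)
      (closure_minimal (Set.singleton_subset_iff.mpr h2) hZ)⟩, subset_closure rfl⟩
  have := hGY.2.1.1
  have := hGZ.2.1.1
  have := hGU.2.1.1
  have := hGW.2.1.1
  have hzero : ∀ {S : Set X} {H : X.Modules} {ρ : M ⟶ H}, TFOne.IsQuotOn X M S H ρ → ∀ η, η ∉ S →
      Modules.StalkModule.stalkMapₗ ρ η = 0 := fun hH η hη => LinearMap.ext fun _ =>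
    @Subsingleton.elim _ (Generic.subsingleton_stalk hH hη) _ _
  obtain ⟨rY, hrY⟩ := Generic.exists_factor hM hGU hGY.2.2.1 πY
    fun η _ h => hzero hGY η fun h' => h (Or.inl h')
  obtain ⟨rZ, hrZ⟩ := Generic.exists_factor hM hGU hGZ.2.2.1 πZ
    fun η _ h => hzero hGZ η fun h' => h (Or.inr h')
  obtain ⟨pY, hpY⟩ := Generic.exists_factor hM hGY hGW.2.2.1 πW
    fun η _ h => hzero hGW η fun h' => h (hWY h')
  obtain ⟨pZ, hpZ⟩ := Generic.exists_factor hM hGZ hGW.2.2.1 πW
    fun η _ h => hzero hGW η fun h' => h (hWZ h')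
  have := hGW.1
  have := hGU.1
  have hepY : Epi pY := epi_of_epi_fac hpY
  have hr : rY ≫ pY = rZ ≫ pZ := by
    rw [← cancel_epi πU, ← Category.assoc, hrY, hpY, ← Category.assoc, hrZ, hpZ]
  let σ : GY ⊞ GZ ⟶ GW := biprod.desc pY (-pZ)
  have : Epi σ := epi_of_epi_fac (f := biprod.inl) (h := pY) (biprod.inl_desc pY (-pZ))
  let ι : GU ⟶ GY ⊞ GZ := biprod.lift rY rZ
  have hισ : ι ≫ σ = 0 := by
    simp only [ι, σ, biprod.lift_desc, Preadditive.comp_neg, hr, add_neg_cancel]
  have hB : Coh.IsCoh (GY ⊞ GZ) := CohBasics.Closure.isCoh_biprod hGY.2.1 hGZ.2.1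
  have hK : Coh.IsCoh (kernel σ) := CohBasics.Closure.isCoh_kernel σ hB hGW.2.1.1
  let j : GU ⟶ kernel σ := kernel.lift σ ι hισ
  have hjf : j ≫ kernel.ι σ ≫ biprod.fst = rY := by
    rw [← Category.assoc, kernel.lift_ι, biprod.lift_fst]
  have hjs : j ≫ kernel.ι σ ≫ biprod.snd = rZ := by
    rw [← Category.assoc, kernel.lift_ι, biprod.lift_snd]
  have hkey : kernel.ι σ ≫ biprod.fst ≫ pY = kernel.ι σ ≫ biprod.snd ≫ pZ := by
    rw [← sub_eq_zero, ← Preadditive.comp_sub]
    have : biprod.fst ≫ pY - biprod.snd ≫ pZ = σ := by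
      apply biprod.hom_ext' <;> simp [σ]
    rw [this, kernel.condition]
  have happ : ∀ {A B C : X.Modules} (f : A ⟶ B) (g : B ⟶ C) (h : A ⟶ C), f ≫ g = h → ∀ η v,
      Modules.StalkModule.stalkMapₗ g η (Modules.StalkModule.stalkMapₗ f η v) =
        Modules.StalkModule.stalkMapₗ h η v := fun f g h e η v => by
    rw [← e, Modules.StalkModule.stalkMapₗ_comp]; rfl
  have : Mono j := by
    refine Generic.mono_of_generic hGU.2.2.1 j fun η hη => ?_
    by_cases h1 : η ∈ Y
    · intro a b hab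
      refine (Generic.bijective_factor hM hGU hGY hrY hη (Or.inl h1) h1).1 ?_
      rw [← happ j _ _ hjf η a, ← happ j _ _ hjf η b, hab]
    · by_cases h2 : η ∈ Z
      · intro a b hab
        refine (Generic.bijective_factor hM hGU hGZ hrZ hη (Or.inr h2) h2).1 ?_
        rw [← happ j _ _ hjs η a, ← happ j _ _ hjs η b, hab]
      · exact fun a b _ =>
          @Subsingleton.elim _ (Generic.subsingleton_stalk hGU (fun h => h.elim h1 h2)) a b
  have hQ : ∀ η ∈ genericPoints X, Subsingleton ((cokernel j).presheaf.stalk η) := by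
    intro η hη
    have hp := (Modules.StalkModule.epi_iff_stalkMapₗ_surjective (cokernel.π j)).mp inferInstance η
    refine subsingleton_of_forall_eq 0 fun q => ?_
    obtain ⟨v, rfl⟩ := hp q
    suffices ∃ u, Modules.StalkModule.stalkMapₗ j η u = v by
      obtain ⟨u, rfl⟩ := this
      rw [happ j (cokernel.π j) 0 (cokernel.condition j), Modules.StalkModule.stalkMapₗ_zero]
      rfl
    set a := Modules.StalkModule.stalkMapₗ (kernel.ι σ ≫ biprod.fst) η v with ha
    set b := Modules.StalkModule.stalkMapₗ (kernel.ι σ ≫ biprod.snd) η v with hb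
    have hab : Modules.StalkModule.stalkMapₗ pY η a = Modules.StalkModule.stalkMapₗ pZ η b := by
      rw [ha, hb, happ _ pY _ rfl, happ _ pZ _ rfl, Category.assoc, Category.assoc, hkey]
    obtain ⟨u, hu1, hu2⟩ : ∃ u, Modules.StalkModule.stalkMapₗ rY η u = a ∧
        Modules.StalkModule.stalkMapₗ rZ η u = b := by
      by_cases h1 : η ∈ Y
      · obtain ⟨u, hu⟩ := (Generic.bijective_factor hM hGU hGY hrY hη (Or.inl h1) h1).2 a
        refine ⟨u, hu, ?_⟩
        by_cases h2 : η ∈ Z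
        · refine (Generic.bijective_factor hM hGZ hGW hpZ hη h2 (hmeet η hη h1 h2)).1 ?_
          rw [← hab, ← hu, happ rY pY _ rfl, happ rZ pZ _ rfl, hr]
        · exact @Subsingleton.elim _ (Generic.subsingleton_stalk hGZ h2) _ _
      · by_cases h2 : η ∈ Z
        · obtain ⟨u, hu⟩ := (Generic.bijective_factor hM hGU hGZ hrZ hη (Or.inr h2) h2).2 b
          exact ⟨u, @Subsingleton.elim _ (Generic.subsingleton_stalk hGY h1) _ _, hu⟩
        · exact ⟨0, @Subsingleton.elim _ (Generic.subsingleton_stalk hGY h1) _ _,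
            @Subsingleton.elim _ (Generic.subsingleton_stalk hGZ h2) _ _⟩
    refine ⟨u, (Modules.StalkModule.mono_iff_stalkMapₗ_injective (kernel.ι σ)).mp inferInstance η ?_⟩
    have hid : (𝟙 (GY ⊞ GZ) : _) = biprod.fst ≫ biprod.inl + biprod.snd ≫ biprod.inr :=
      biprod.total.symm
    have hw : ∀ w, w = Modules.StalkModule.stalkMapₗ biprod.inl η
          (Modules.StalkModule.stalkMapₗ (biprod.fst : GY ⊞ GZ ⟶ GY) η w) +
        Modules.StalkModule.stalkMapₗ biprod.inr η
          (Modules.StalkModule.stalkMapₗ (biprod.snd : GY ⊞ GZ ⟶ GZ) η w) := fun w => by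
      conv_lhs => rw [← LinearMap.id_apply (R := X.presheaf.stalk η) w,
        ← Modules.StalkModule.stalkMapₗ_id, hid, Modules.StalkModule.stalkMapₗ_add]
      rw [LinearMap.add_apply, happ _ _ _ rfl, happ _ _ _ rfl]
    rw [hw (Modules.StalkModule.stalkMapₗ (kernel.ι σ) η (Modules.StalkModule.stalkMapₗ j η u)),
      hw (Modules.StalkModule.stalkMapₗ (kernel.ι σ) η v), happ j (kernel.ι σ) _ rfl,
      happ (kernel.ι σ) biprod.fst _ rfl, happ (kernel.ι σ) biprod.snd _ rfl,
      happ (j ≫ kernel.ι σ) biprod.fst rY (by rw [Category.assoc, hjf]),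
      happ (j ≫ kernel.ι σ) biprod.snd rZ (by rw [Category.assoc, hjs]), ← ha, ← hb, hu1, hu2]
  have hC : Coh.IsCoh (cokernel j) := CohBasics.Closure.isCoh_cokernel j hGU.2.1.1 hK
  refine ⟨cokernel j, hC, hQ, fun F hF => ?_⟩
  have e1 : F (GY ⊞ GZ) = F (kernel σ) + F GW :=
    hF (ShortComplex.mk (kernel.ι σ) σ (kernel.condition σ))
      { exact := ShortComplex.exact_of_f_is_kernel _ (kernelIsKernel σ) } hK hB hGW.2.1
  have e2 : F (kernel σ) = F GU + F (cokernel j) :=
    hF (ShortComplex.mk j (cokernel.π j) (cokernel.condition j))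
      { exact := ShortComplex.exact_of_g_is_cokernel _ (cokernelIsCokernel j) } hGU.2.1 hK hC
  have e3 : F (GY ⊞ GZ) = F GY + F GZ :=
    hF (ShortComplex.mk (biprod.inl : GY ⟶ GY ⊞ GZ) biprod.snd biprod.inl_snd)
      (ShortComplex.Splitting.ofHasBinaryBiproduct GY GZ).shortExact hGY.2.1 hB hGZ.2.1
  omega

theorem euler_union_add_meet_le [IsReduced X]
    (hpure : ∀ C ∈ irreducibleComponents (X : Type u), topologicalKrullDim C = 1) {M : X.Modules}
    (hM : TFOne.IsTF1 X M) {Y Z W : Set X} (hY : IsClosed Y) (hZ : IsClosed Z)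
    (hW : W = ⋃₀ {C | C ∈ irreducibleComponents (X : Type u) ∧ C ⊆ Y ∩ Z})
    {GY GZ GU GW : X.Modules} {πY : M ⟶ GY} {πZ : M ⟶ GZ} {πU : M ⟶ GU} {πW : M ⟶ GW}
    (hGY : TFOne.IsQuotOn X M Y GY πY) (hGZ : TFOne.IsQuotOn X M Z GZ πZ)
    (hGU : TFOne.IsQuotOn X M (Y ∪ Z) GU πU) (hGW : TFOne.IsQuotOn X M W GW πW) :
    Curv2.euler k X GU + Curv2.euler k X GW ≤ Curv2.euler k X GY + Curv2.euler k X GZ := by
  have := Curves.GlobalSections.noetherianSpace_of_proper k X
  have := LocallyOfFiniteType.isLocallyNoetherian (X ↘ Spec (CommRingCat.of k))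
  obtain ⟨C, -, hC0, hF⟩ := exists_union_data hM hY hZ hW hGY hGZ hGU hGW
  have h := hF (Curv2.euler k X) fun S hS h₁ h₂ h₃ => ParBun.Proper.euler_add hS h₁ h₂ h₃
  have h' := euler_nonneg (k := k) (dim_le hpure) hC0
  omega

end Groth.Agent.Lib.TFOne.Euler
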