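import Groth.Prelude.Def_TFOne
import Groth.Agent.Lib.Modules.Stalk
import Groth.Agent.Lib.Modules.StalkModule
import Groth.Agent.Lib.Modules.Support
import Groth.Agent.Lib.QCoh.Stalk
import Groth.Agent.Lib.Flat55.GenericPoints
import Groth.Agent.Lib.ModelFibre.MaxPoint
import Groth.Agent.Lib.CohBasics.Closure
import Mathlib.RingTheory.Ideal.MinimalPrime.Localization
import Mathlib.RingTheory.Ideal.MinimalPrime.Noetherian
import Mathlib.AlgebraicGeometry.Noetherian

/-!
# Torsion-free modules on reduced schemes are detected at the generic points of components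

For a torsion-free quasi-coherent module on a reduced locally Noetherian scheme a section vanishes as
soon as its germs at the generic points of components vanish.  Consequences: monomorphisms and zero
morphisms are detected there, and torsion-free quotients on subcurves have the universal property.
-/

set_option autoImplicit false
universe u

open CategoryTheory Limits AlgebraicGeometry Opposite TopologicalSpace

namespace Groth.Agent.Lib.TFOne.Generic

open Groth.Agent.Lib

variable {X : Scheme.{u}}

/-- In a reduced Noetherian ring an ideal contained in no minimal prime contains a regular element. -/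
theorem exists_mem_nonZeroDivisors {A : Type u} [CommRing A] [IsNoetherianRing A]
    [_root_.IsReduced A] (I : Ideal A) (h : ∀ p ∈ minimalPrimes A, ¬ I ≤ p) :
    ∃ f ∈ I, f ∈ nonZeroDivisors A := by
  have hfin := minimalPrimes.finite_of_isNoetherianRing (R := A)
  obtain ⟨f, hfI, hf⟩ : ∃ f ∈ (I : Set A), f ∉ ⋃ p ∈ minimalPrimes A, (p : Set A) := by
    rw [← Set.not_subset]
    intro hsub
    obtain ⟨p, hp, hle⟩ := (Ideal.subset_union_prime_finite hfin (f := fun p : Ideal A => p) ⊤ ⊤
      (fun p hp _ _ => Ideal.minimalPrimes_isPrime hp)).mp hsub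
    exact h p hp hle
  refine ⟨f, hfI, mem_nonZeroDivisors_iff_right.mpr fun y hy => ?_⟩
  by_contra hy0
  refine hf ?_
  rw [minimalPrimes, Ideal.iUnion_minimalPrimes]
  have hr : (⊥ : Ideal A).radical = ⊥ := by
    simpa [nilradical] using nilradical_eq_zero A
  exact ⟨y, by rwa [hr, Ideal.mem_bot], by rw [hr, Ideal.mem_bot, mul_comm, hy]⟩

/-- Generic germs detect sections of torsion-free quasi-coherent modules. -/
theorem germ_eq_zero [IsReduced X] [IsLocallyNoetherian X] {M : X.Modules} [M.IsQuasicoherent]
    (hT : TorSh.IsTorsionFree M) {U : X.Opens} {x : X} (hx : x ∈ U) (t : Γ(M, U))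
    (h : ∀ η ∈ genericPoints X, ∀ hη : η ∈ U, M.presheaf.germ U η hη t = 0) :
    M.presheaf.germ U x hx t = 0 := by
  obtain ⟨V, hV, hxV, hVU⟩ := exists_isAffineOpen_mem_and_subset hx
  rw [← TopCat.Presheaf.germ_res_apply M.presheaf (homOfLE hVU) x hxV t]
  set s : Γ(M, V) := M.presheaf.map (homOfLE hVU).op t with hs
  have : IsNoetherianRing Γ(X, V) := IsLocallyNoetherian.component_noetherian ⟨V, hV⟩
  let I : Ideal Γ(X, V) := LinearMap.ker (LinearMap.toSpanSingleton Γ(X, V) Γ(M, V) s)
  have key : ∀ p ∈ minimalPrimes Γ(X, V), ¬ I ≤ p := by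
    intro p hp hle
    let q : PrimeSpectrum Γ(X, V) := ⟨p, Ideal.minimalPrimes_isPrime hp⟩
    have hqV : hV.fromSpec q ∈ V := by
      have := hV.range_fromSpec ▸ Set.mem_range_self (f := hV.fromSpec) q
      exact this
    have hgen : hV.fromSpec q ∈ genericPoints X := by
      refine Flat55.GenericPoints.mem_of_forall_specializes fun y hy => ?_
      obtain ⟨q', rfl⟩ : y ∈ Set.range hV.fromSpec := by
        rw [hV.range_fromSpec]; exact hy.mem_open V.isOpen hqV
      have hle' := (PrimeSpectrum.le_iff_specializes q' q).mpr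
        (hV.fromSpec.isOpenEmbedding.isInducing.specializes_iff.mp hy)
      have he : (q' : PrimeSpectrum Γ(X, V)) = q :=
        le_antisymm (α := PrimeSpectrum Γ(X, V)) hle' (hp.2 ⟨q'.isPrime, bot_le⟩ hle')
      exact congrArg hV.fromSpec he
    have h0 : M.presheaf.germ V _ hqV s = 0 :=
      (TopCat.Presheaf.germ_res_apply M.presheaf (homOfLE hVU) _ hqV t).trans (h _ hgen (hVU hqV))
    obtain ⟨f, hf, hfs⟩ := (QCoh.Stalk.germ_eq_zero_iff M hV hqV s).mp h0
    have hq : q ∈ PrimeSpectrum.basicOpen f := by
      rw [← hV.fromSpec_preimage_basicOpen f]; exact hf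
    exact hq (hle hfs)
  obtain ⟨f, hfI, hfr⟩ := exists_mem_nonZeroDivisors I key
  have h2 := congrArg (M.presheaf.germ V x hxV) (LinearMap.mem_ker.mp hfI)
  rw [LinearMap.toSpanSingleton_apply, Modules.StalkModule.germ_smul, map_zero] at h2
  letI : Algebra Γ(X, V) (X.presheaf.stalk x) :=
    TopCat.Presheaf.algebra_section_stalk X.presheaf ⟨x, hxV⟩
  have : IsLocalization.AtPrime (X.presheaf.stalk x) (hV.primeIdealOf ⟨x, hxV⟩).asIdeal :=
    hV.isLocalization_stalk ⟨x, hxV⟩
  have hreg : IsRegular (X.presheaf.germ V x hxV f) :=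
    isRegular_iff_mem_nonZeroDivisors.mpr
      (IsLocalization.nonZeroDivisors_le_comap (hV.primeIdealOf ⟨x, hxV⟩).asIdeal.primeCompl
        (X.presheaf.stalk x) hfr)
  exact ((hT x).isSMulRegular hreg).right_eq_zero_of_smul h2

section

variable [IsReduced X] [IsLocallyNoetherian X] {M N : X.Modules}

/-- A morphism out of a torsion-free module, injective at all generic points, is a monomorphism. -/
theorem mono_of_generic [M.IsQuasicoherent] (hT : TorSh.IsTorsionFree M) (f : M ⟶ N)
    (h : ∀ η ∈ genericPoints X, Function.Injective (Modules.StalkModule.stalkMapₗ f η)) : Mono f := by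
  rw [Modules.Stalk.mono_iff_app_injective]
  intro U
  refine (injective_iff_map_eq_zero (f.app U).hom).mpr fun t ht => ?_
  refine Modules.Support.eq_zero_of_germ_eq_zero t fun x hx _ =>
    germ_eq_zero hT hx t fun η hη hηU => h η hη ?_
  rw [Modules.StalkModule.stalkMapₗ_germ, map_zero]
  exact (congrArg _ ht).trans (map_zero _)

/-- A morphism into a torsion-free module, zero at all generic points, is zero. -/
theorem eq_zero_of_generic [N.IsQuasicoherent] (hT : TorSh.IsTorsionFree N) (f : M ⟶ N)
    (h : ∀ η ∈ genericPoints X, Modules.StalkModule.stalkMapₗ f η = 0) : f = 0 := by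
  refine Scheme.Modules.hom_ext _ _ fun U => ConcreteCategory.ext_apply fun t => ?_
  refine Modules.Support.eq_zero_of_germ_eq_zero _ fun x hx _ =>
    germ_eq_zero hT hx _ fun η hη hηU => ?_
  rw [← Modules.StalkModule.stalkMapₗ_germ, h η hη]
  rfl

end

section Quot

variable {M G : X.Modules} {T : Set X} {π : M ⟶ G}

/-- Off `T` the stalks of the quotient on `T` vanish. -/
theorem subsingleton_stalk (hG : TFOne.IsQuotOn X M T G π) {x : X} (hx : x ∉ T) :
    Subsingleton (G.presheaf.stalk x) :=
  Modules.Support.not_mem_support_iff.mp (by rwa [hG.2.2.2])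

/-- At a generic point in `T` the quotient map is bijective on stalks. -/
theorem bijective_stalk [IsReduced X] (hM : TFOne.IsTF1 X M) (hG : TFOne.IsQuotOn X M T G π)
    {η : X} (hη : η ∈ genericPoints X) (hT : η ∈ T) :
    Function.Bijective (Modules.StalkModule.stalkMapₗ π η) := by
  obtain ⟨e⟩ := hM.2.2 η hη
  have hF : IsField (X.presheaf.stalk η) :=
    ModelFibre.MaxPoint.isField_stalk fun y hy => Flat55.GenericPoints.eq_of_specializes hη hy
  have := hG.1
  have hsur := (Modules.StalkModule.epi_iff_stalkMapₗ_surjective π).mp inferInstance η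
  refine ⟨(injective_iff_map_eq_zero _).mpr fun v hv => ?_, hsur⟩
  by_contra hv0
  obtain ⟨c, hc⟩ := hF.mul_inv_cancel (a := e v) (by simpa using hv0)
  have hz : ∀ w, Modules.StalkModule.stalkMapₗ π η w = 0 := fun w => by
    have : w = (e w * c) • v := e.injective <| by
      rw [map_smul, smul_eq_mul, mul_assoc, mul_comm c, hc, mul_one]
    rw [this, map_smul, hv, smul_zero]
  have hmem : η ∈ CohB1.support G := by rw [hG.2.2.2]; exact hT
  exact hmem (subsingleton_of_forall_eq 0 fun g => by
    obtain ⟨w, rfl⟩ := hsur g; exact hz w)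

/-- A map to a torsion-free module vanishing at the generic points outside `T` factors through the
quotient on `T`. -/
theorem exists_factor [IsReduced X] [IsLocallyNoetherian X] (hM : TFOne.IsTF1 X M)
    (hG : TFOne.IsQuotOn X M T G π) {H : X.Modules} [H.IsQuasicoherent]
    (hH : TorSh.IsTorsionFree H) (f : M ⟶ H)
    (h : ∀ η ∈ genericPoints X, η ∉ T → Modules.StalkModule.stalkMapₗ f η = 0) :
    ∃ g : G ⟶ H, π ≫ g = f := by
  have := hG.1
  refine ⟨Abelian.epiDesc π f (eq_zero_of_generic hH _ fun η hη => ?_), Abelian.comp_epiDesc π f _⟩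
  by_cases hT : η ∈ T
  · ext v
    have hz : Modules.StalkModule.stalkMapₗ π η
        (Modules.StalkModule.stalkMapₗ (kernel.ι π) η v) = 0 := by
      rw [← LinearMap.comp_apply, ← Modules.StalkModule.stalkMapₗ_comp, kernel.condition,
        Modules.StalkModule.stalkMapₗ_zero]
      rfl
    rw [Modules.StalkModule.stalkMapₗ_comp, LinearMap.comp_apply,
      (bijective_stalk hM hG hη hT).1 (hz.trans (map_zero _).symm), map_zero]
    rfl
  · rw [Modules.StalkModule.stalkMapₗ_comp, h η hη hT, LinearMap.zero_comp]

/-- The factored map is bijective at generic points of both sets. -/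
theorem bijective_factor [IsReduced X] (hM : TFOne.IsTF1 X M) (hG : TFOne.IsQuotOn X M T G π)
    {S : Set X} {H : X.Modules} {ρ : M ⟶ H} (hH : TFOne.IsQuotOn X M S H ρ) {g : G ⟶ H}
    (hg : π ≫ g = ρ) {η : X} (hη : η ∈ genericPoints X) (hT : η ∈ T) (hS : η ∈ S) :
    Function.Bijective (Modules.StalkModule.stalkMapₗ g η) := by
  have h := bijective_stalk hM hH hη hS
  rw [← hg, Modules.StalkModule.stalkMapₗ_comp, LinearMap.coe_comp] at h
  exact (Function.Bijective.of_comp_iff _ (bijective_stalk hM hG hη hT)).mp h

end Quot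

end Groth.Agent.Lib.TFOne.Generic
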