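import Groth.Agent.Lib.TFOne.Simple
import Groth.Agent.Lib.RefHull.HomSh
import Groth.Agent.Lib.Snapper.Finite
import Groth.Agent.Lib.Curves.PolePoint
import Mathlib.AlgebraicGeometry.Geometrically.Integral
import Mathlib.RingTheory.Flat.Basic
import Mathlib.RingTheory.IntegralClosure.Algebra.Basic

/-!
# Endomorphisms of torsion-free rank-one sheaves are constant on geometrically integral components

The scalar by which an endomorphism acts at a generic point is algebraic over the ground field
(global sections of the sheaf Hom are finite-dimensional), and the ground field is algebraically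
closed in the function field of a geometrically integral component.
-/

set_option autoImplicit false
universe u

open CategoryTheory Limits AlgebraicGeometry Opposite TopologicalSpace TensorProduct Polynomial

namespace Groth.Agent.Lib.TFOne.Field

open Groth.Agent.Lib

/-- A subfield of a domain `A` with `A ⊗ K` a domain, finite over the ground field, is trivial. -/
theorem mem_range_of_isDomain_tensor {k A : Type u} [Field k] [CommRing A] [IsDomain A]
    [Algebra k A] (s : A) (hs : IsIntegral k s)
    (h : ∀ (K : Type u) [Field K] [Algebra k K], IsDomain (A ⊗[k] K)) :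
    s ∈ (algebraMap k A).range := by
  let K : Subalgebra k A := Algebra.adjoin k {s}
  have : Module.Finite k K := Module.Finite.iff_fg.mpr (hs.fg_adjoin_singleton)
  have : Algebra.IsIntegral k K := Algebra.IsIntegral.of_finite k K
  have hK : IsField K := isField_of_isIntegral_of_isField' (Field.toIsField k)
  letI := hK.toField
  have := h K
  have hinj : Function.Injective (Algebra.TensorProduct.map K.val (AlgHom.id k K) : K ⊗[k] K → A ⊗[k] K) :=
    Module.Flat.rTensor_preserves_injective_linearMap (M := K) K.val.toLinearMap Subtype.coe_injective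
  have : IsDomain (K ⊗[k] K) := hinj.isDomain
  have : Module.Finite k (K ⊗[k] K) := inferInstance
  have hF : IsField (K ⊗[k] K) :=
    isField_of_isIntegral_of_isField' (R := k) (Field.toIsField k)
  letI := hF.toField
  let m : K ⊗[k] K →ₐ[k] K := Algebra.TensorProduct.lmul' k
  have hm : Function.Bijective m.toLinearMap :=
    ⟨RingHom.injective m.toRingHom, fun x => ⟨x ⊗ₜ 1, by simp [m]⟩⟩
  have hd := (LinearEquiv.ofBijective m.toLinearMap hm).finrank_eq
  rw [Module.finrank_tensorProduct] at hd
  have h0 : 0 < Module.finrank k K := Module.finrank_pos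
  have h1 : Module.finrank k K = 1 := (Nat.mul_eq_left h0.ne').mp hd
  obtain ⟨c, hc⟩ := (finrank_eq_one_iff_of_nonzero' (1 : K) one_ne_zero).mp h1
    ⟨s, Algebra.subset_adjoin rfl⟩
  exact ⟨c, by simpa [Algebra.algebraMap_eq_smul_one] using congrArg Subtype.val hc⟩

section Scheme

variable {k : Type u} [Field k] {X : Scheme.{u}} [X.Over (Spec (CommRingCat.of k))]

/-- Sections over an affine open of a geometrically integral component stay a domain after
extending the ground field. -/
theorem isDomain_tensor [IsReduced X] {C : Set X} (hC : IsClosed C)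
    (hgi : GeometricallyIntegral (VecSt.subschι X C hC ≫ (X ↘ Spec (CommRingCat.of k))))
    {U : X.Opens} (hU : IsAffineOpen U) (hne : (U : Set X).Nonempty) (hUC : (U : Set X) ⊆ C)
    (K : Type u) [_root_.Field K] [Algebra k K] :
    letI := (Curves.PolePoint.cst k U).toAlgebra
    IsDomain (Γ(X, U) ⊗[k] K) := by
  letI := (Curves.PolePoint.cst k U).toAlgebra
  have hsurj : Surjective (pullback.fst hU.fromSpec (VecSt.subschι X C hC)) := by
    refine ⟨fun z => ?_⟩
    have hz : hU.fromSpec z ∈ Set.range (VecSt.subschι X C hC) := by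
      rw [show Set.range (VecSt.subschι X C hC) = C by simp [VecSt.subschι]]
      exact hUC (hU.range_fromSpec ▸ Set.mem_range_self (f := hU.fromSpec) z)
    obtain ⟨c, hc⟩ := hz
    obtain ⟨w, hw, -⟩ := Scheme.Pullback.exists_preimage_pullback (f := hU.fromSpec)
      (g := VecSt.subschι X C hC) z c hc.symm
    exact ⟨w, hw⟩
  have : IsReduced (Spec Γ(X, U)) := isReduced_of_isOpenImmersion hU.fromSpec
  have : IsIso (pullback.fst hU.fromSpec (VecSt.subschι X C hC)) :=
    isIso_of_isClosedImmersion_of_surjective _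
  let j : Spec Γ(X, U) ⟶ VecSt.subsch X C hC :=
    inv (pullback.fst hU.fromSpec (VecSt.subschι X C hC)) ≫ pullback.snd _ _
  have hj : j ≫ VecSt.subschι X C hC ≫ (X ↘ Spec (CommRingCat.of k)) =
      Spec.map (CommRingCat.ofHom (algebraMap k Γ(X, U))) := by
    rw [RingHom.algebraMap_toAlgebra, ← Curves.PolePoint.fromSpec_comp_over hU]
    simp only [j, Category.assoc, IsIso.inv_comp_eq]
    rw [pullback.condition_assoc]
  have : IsOpenImmersion j := inferInstance
  let g := VecSt.subschι X C hC ≫ (X ↘ Spec (CommRingCat.of k))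
  let q := Spec.map (CommRingCat.ofHom (algebraMap k K))
  have : IsIntegral (pullback g q) :=
    hgi.geometrically_isIntegral q _ _ (IsPullback.of_hasPullback g q)
  let e : Spec (CommRingCat.of (Γ(X, U) ⊗[k] K)) ≅ pullback j (pullback.fst g q) :=
    (pullbackSpecIso k Γ(X, U) K).symm ≪≫ pullback.congrHom hj.symm rfl ≪≫
      (pullbackRightPullbackFstIso g q j).symm
  have hne' : Nonempty (Spec Γ(X, U)) := by
    obtain ⟨x, hx⟩ := hne
    exact ⟨hU.primeIdealOf ⟨x, hx⟩⟩
  have : Nontrivial Γ(X, U) := (PrimeSpectrum.nonempty_iff_nontrivial).mp hne'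
  have : Nontrivial (Γ(X, U) ⊗[k] K) :=
    (Algebra.TensorProduct.includeLeft_injective (R := k) (S := k) (A := Γ(X, U)) (B := K)
      (RingHom.injective (algebraMap k K))).nontrivial
  have : Nonempty (Spec (CommRingCat.of (Γ(X, U) ⊗[k] K))) :=
    inferInstanceAs (Nonempty (PrimeSpectrum (Γ(X, U) ⊗[k] K)))
  have : IsIntegral (Spec (CommRingCat.of (Γ(X, U) ⊗[k] K))) :=
    isIntegral_of_isOpenImmersion (e.hom ≫ pullback.snd _ _)
  exact (affine_isIntegral_iff (CommRingCat.of (Γ(X, U) ⊗[k] K))).mp this

/-- The ground field is algebraically closed in the function field of a geometrically integral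
component. -/
theorem mem_range_base [IsReduced X] [IsNoetherian X] {η : X} (hη : η ∈ genericPoints X)
    (hgi : GeometricallyIntegral
      (VecSt.subschι X (closure {η}) isClosed_closure ≫ (X ↘ Spec (CommRingCat.of k))))
    {a : X.presheaf.stalk η} {p : k[X]} (hp : p ≠ 0) (ha : p.eval₂ (Simple.base η) a = 0) :
    a ∈ (Simple.base (k := k) η).range := by
  obtain ⟨V, hηV, s, rfl⟩ := TopCat.Presheaf.exists_germ_eq X.presheaf a
  have hfin : (irreducibleComponents (X : Type u)).Finite :=
    NoetherianSpace.finite_irreducibleComponents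
  let O : Set X := (⋃ D ∈ irreducibleComponents (X : Type u) \ {closure {η}}, D)ᶜ
  have hO : IsOpen O := ((hfin.sdiff).isClosed_biUnion fun D hD =>
    isClosed_of_mem_irreducibleComponents D hD.1).isOpen_compl
  have hηO : η ∈ O := by
    simp only [O, Set.mem_compl_iff, Set.mem_iUnion, exists_prop, not_exists, not_and]
    intro D hD hmem
    exact hD.2 ((hη.eq_of_le hD.1.1 (closure_minimal (Set.singleton_subset_iff.mpr hmem)
      (isClosed_of_mem_irreducibleComponents D hD.1))).symm)
  obtain ⟨U, hU, hηU, hUV⟩ := exists_isAffineOpen_mem_and_subset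
    (U := V ⊓ (⟨O, hO⟩ : X.Opens)) ⟨hηV, hηO⟩
  have hUC : (U : Set X) ⊆ closure {η} := fun x hx => by
    by_contra hxC
    refine (hUV hx).2 (Set.mem_iUnion₂.mpr ⟨irreducibleComponent x,
      ⟨irreducibleComponent_mem_irreducibleComponents x, fun e => hxC ?_⟩,
      mem_irreducibleComponent⟩)
    have h' := mem_irreducibleComponent (x := x)
    rwa [Set.mem_singleton_iff.mp e] at h'
  letI := (Curves.PolePoint.cst k U).toAlgebra
  have hdom : ∀ (K : Type u) [_root_.Field K] [Algebra k K], IsDomain (Γ(X, U) ⊗[k] K) :=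
    fun K _ _ => isDomain_tensor isClosed_closure hgi hU ⟨η, hηU⟩ hUC K
  have : IsDomain Γ(X, U) :=
    (Algebra.TensorProduct.rid k k Γ(X, U)).symm.toMulEquiv.isDomain (B := Γ(X, U) ⊗[k] k)
  let s' : Γ(X, U) := X.presheaf.map (homOfLE (hUV.trans inf_le_left)).op s
  have hcomp : (X.presheaf.germ U η hηU).hom.comp (algebraMap k Γ(X, U)) = Simple.base η := by
    refine RingHom.ext fun c => ?_
    rw [RingHom.algebraMap_toAlgebra, RingHom.comp_apply]
    change _ = X.presheaf.germ ⊤ η trivial (Coh.toGlobal (X ↘ Spec (CommRingCat.of k)) c)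
    rw [← TopCat.Presheaf.germ_res_apply X.presheaf (homOfLE (le_top (a := U))) η hηU]
    rfl
  have hgerm : X.presheaf.germ U η hηU s' = X.presheaf.germ V η hηV s :=
    TopCat.Presheaf.germ_res_apply X.presheaf _ η hηU s
  have hinj : Function.Injective (X.presheaf.germ U η hηU) := by
    refine (injective_iff_map_eq_zero _).mpr fun t ht => ?_
    have : IsNoetherianRing Γ(X, U) := IsLocallyNoetherian.component_noetherian ⟨U, hU⟩
    letI : Algebra Γ(X, U) (X.presheaf.stalk η) :=
      TopCat.Presheaf.algebra_section_stalk X.presheaf ⟨η, hηU⟩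
    have := hU.isLocalization_stalk ⟨η, hηU⟩
    obtain ⟨⟨m, hm⟩, hmt⟩ := (IsLocalization.map_eq_zero_iff
      (hU.primeIdealOf ⟨η, hηU⟩).asIdeal.primeCompl (X.presheaf.stalk η) t).mp ht
    exact (mul_eq_zero.mp hmt).resolve_left fun h0 => hm (by rw [show m = 0 from h0]; exact Ideal.zero_mem _)
  have hs : IsIntegral k s' := by
    refine IsAlgebraic.isIntegral ⟨p, hp, hinj ?_⟩
    rw [map_zero, aeval_def, hom_eval₂, hcomp, hgerm, ha]
  obtain ⟨c, hc⟩ := mem_range_of_isDomain_tensor s' hs hdom
  exact ⟨c, by rw [← hgerm, ← hc, ← hcomp]; rfl⟩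

/-- Endomorphisms act on generic stalks by constants. -/
theorem exists_scalar [IsProper (X ↘ Spec (CommRingCat.of k))] [IsReduced X] {M : X.Modules}
    (hM : TFOne.IsTF1 X M) (φ : M ⟶ M) {η : X} (hη : η ∈ genericPoints X)
    (hgi : GeometricallyIntegral
      (VecSt.subschι X (closure {η}) isClosed_closure ≫ (X ↘ Spec (CommRingCat.of k)))) :
    ∃ c : k, ∀ v, Modules.StalkModule.stalkMapₗ φ η v = Simple.base η c • v := by
  have := Curves.GlobalSections.isNoetherian_of_proper k X
  obtain ⟨e⟩ := hM.2.2 η hη
  let a : X.presheaf.stalk η := e (Modules.StalkModule.stalkMapₗ φ η (e.symm 1))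
  have hv : ∀ v, Modules.StalkModule.stalkMapₗ φ η v = a • v := fun v => e.injective (by
    conv_lhs => rw [show v = e v • e.symm 1 from e.injective (by simp)]
    rw [map_smul, map_smul, map_smul, smul_eq_mul, smul_eq_mul, mul_comm])
  suffices h : a ∈ (Simple.base (k := k) η).range by
    obtain ⟨c, hc⟩ := h
    exact ⟨c, fun v => by rw [hc, hv]⟩
  let H : X.Modules := RefHull.homSh M M
  letI := Curves.GlobalSections.secModule k H
  have : FiniteDimensional k (Coh.HH X H 0) :=
    Snapper.Finite.cohFinite k X H (RefHull.HomSh.isCoh_homSh hM.1 hM.1) 0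
  have : FiniteDimensional k (H.val.obj (op ⊤) : Type u) :=
    Module.Finite.equiv (Curves.GlobalSections.h0Linear k H)
  let P : ℕ → (M ⟶ M) := fun n => Nat.rec (𝟙 M) (fun _ ψ => ψ ≫ φ) n
  let d := Module.finrank k (H.val.obj (op ⊤) : Type u)
  let v : Fin (d + 1) → (H.val.obj (op ⊤) : Type u) := fun i => RefHull.ofHom (P i) ⊤
  have hdep : ¬ LinearIndependent k v := fun hli => by
    have := hli.fintype_card_le_finrank
    simp [d] at this
  obtain ⟨g, hg, i₀, hi₀⟩ := Fintype.not_linearIndependent_iff.mp hdep
  let ev : (H.val.obj (op ⊤) : Type u) →+ X.presheaf.stalk η :=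
    { toFun := fun s => e ((show Γ(RefHull.homSh M M, ⊤) from s).1 ⟨η, trivial⟩ (e.symm 1))
      map_zero' := by
        rw [show (show Γ(RefHull.homSh M M, ⊤) from (0 : (H.val.obj (op ⊤) : Type u))).1 ⟨η, trivial⟩
          = 0 from rfl, LinearMap.zero_apply, map_zero]
      map_add' := fun s t => map_add e _ _ }
  have hev : ∀ (c : k) (s : (H.val.obj (op ⊤) : Type u)), ev (c • s) = Simple.base η c * ev s :=
    fun c s => (map_smul e _ _).trans rfl
  have hP : ∀ n w, Modules.StalkModule.stalkMapₗ (P n) η w = a ^ n • w := by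
    intro n
    induction n with
    | zero =>
      intro w
      rw [pow_zero, one_smul]
      exact LinearMap.congr_fun (Modules.StalkModule.stalkMapₗ_id η) w
    | succ n ih =>
      intro w
      change Modules.StalkModule.stalkMapₗ (P n ≫ φ) η w = _
      rw [Modules.StalkModule.stalkMapₗ_comp, LinearMap.comp_apply, ih, hv, smul_smul, pow_succ']
  have hv' : ∀ i, ev (v i) = a ^ (i : ℕ) := fun i => by
    change e (RefHull.stalkMapₗ (P i) η (e.symm 1)) = _
    rw [show RefHull.stalkMapₗ (P i) η (e.symm 1) = Modules.StalkModule.stalkMapₗ (P i) η (e.symm 1)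
      from rfl, hP, map_smul, e.apply_symm_apply, smul_eq_mul, mul_one]
  let p : k[X] := ∑ i : Fin (d + 1), Polynomial.C (g i) * Polynomial.X ^ (i : ℕ)
  refine mem_range_base hη hgi (p := p) (fun h0 => hi₀ ?_) ?_
  · have := congrArg (fun q : k[X] => q.coeff (i₀ : ℕ)) h0
    simpa [p, Polynomial.finsetSum_coeff, Fin.val_inj] using this
  · have := congrArg ev hg
    simp only [map_sum, hev, hv', map_zero] at this
    simpa [p, Polynomial.eval₂_finsetSum] using this

end Scheme

end Groth.Agent.Lib.TFOne.Field
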