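import Groth.Agent.Lib.TFOne.Simple
import Groth.Agent.Lib.PushClosed.Unit
import Groth.Agent.Lib.Cyc.Dev.Scheme
import Groth.Agent.H75.RedSub

/-!
# Push-forward of torsion-free sheaves from subcurves
-/

set_option autoImplicit false
universe u

open CategoryTheory Limits AlgebraicGeometry Opposite TopologicalSpace

namespace Groth.Agent.Lib.TFOne.Push

open Groth.Agent.Lib
open Groth.Agent.Lib.DerivedOX.PullbackStalk (pushStalkMap pushStalkMap_germ pushStalkMap_natural
  pushStalkMap_smul)

variable {X : Scheme.{u}} {T : Set X} (hT : IsClosed T)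

/-- A union of irreducible components, possibly empty. -/
def IsUnion (T : Set X) : Prop :=
  ∃ 𝒮 : Set (Set X), 𝒮 ⊆ irreducibleComponents (X : Type u) ∧ T = ⋃₀ 𝒮

lemma isUnion_of_isSubcurve {T : Set X} (h : VecSt.IsSubcurve X T) : IsUnion T :=
  let ⟨𝒮, h1, _, h3⟩ := h
  ⟨𝒮, h1, h3⟩

lemma IsUnion.isClosed [NoetherianSpace X] {T : Set X} (h : IsUnion T) : IsClosed T := by
  obtain ⟨𝒮, h𝒮, rfl⟩ := h
  rw [Set.sUnion_eq_biUnion]
  exact (NoetherianSpace.finite_irreducibleComponents.subset h𝒮).isClosed_biUnion fun C hC =>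
    isClosed_of_mem_irreducibleComponents C (h𝒮 hC)

lemma isUnion_union {A B : Set X} (hA : IsUnion A) (hB : IsUnion B) : IsUnion (A ∪ B) := by
  obtain ⟨𝒮, h1, rfl⟩ := hA
  obtain ⟨𝒯, h2, rfl⟩ := hB
  exact ⟨𝒮 ∪ 𝒯, Set.union_subset h1 h2, (Set.sUnion_union _ _).symm⟩

lemma isUnion_setOf (P : Set X → Prop) :
    IsUnion (⋃₀ {C | C ∈ irreducibleComponents (X : Type u) ∧ P C}) :=
  ⟨_, fun _ hC => hC.1, rfl⟩

instance isReduced_subsch : IsReduced (VecSt.subsch X T hT) :=
  H75.RedSub.isReduced_vanishingIdeal _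

lemma range_subschι : Set.range (VecSt.subschι X T hT) = T := by simp [VecSt.subschι]

/-- Generic points of a subcurve are generic points of the ambient scheme. -/
theorem mem_genericPoints (hs : IsUnion T) {ζ : VecSt.subsch X T hT}
    (hζ : ζ ∈ genericPoints (VecSt.subsch X T hT)) :
    VecSt.subschι X T hT ζ ∈ genericPoints X := by
  obtain ⟨𝒮, h𝒮, hTeq⟩ := hs
  have hmem : VecSt.subschι X T hT ζ ∈ T := (range_subschι hT).le ⟨ζ, rfl⟩
  obtain ⟨C, hC, hζC⟩ : ∃ C ∈ 𝒮, VecSt.subschι X T hT ζ ∈ C := by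
    exact (Set.ext_iff.mp hTeq _).mp hmem
  obtain ⟨η, hη, hηC⟩ := Flat55.GenericPoints.exists_closure_eq (h𝒮 hC)
  have hηT : η ∈ T :=
    (Set.ext_iff.mp hTeq η).mpr ⟨C, hC, hηC.le (subset_closure (Set.mem_singleton η))⟩
  obtain ⟨ζ', rfl⟩ := (range_subschι hT).ge hηT
  have hsp : VecSt.subschι X T hT ζ' ⤳ VecSt.subschι X T hT ζ :=
    specializes_iff_mem_closure.2 (hηC.ge hζC)
  rw [← Flat55.GenericPoints.eq_of_specializes hζ
    ((VecSt.subschι X T hT).isClosedEmbedding.isInducing.specializes_iff.mp hsp)]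
  exact hη

/-- A generic point of `X` in `T` is a generic point of the reduced subscheme on `T`. -/
theorem exists_generic {η : X} (hη : η ∈ genericPoints X) (h : η ∈ T) :
    ∃ ζ ∈ genericPoints (VecSt.subsch X T hT), VecSt.subschι X T hT ζ = η := by
  obtain ⟨ζ, rfl⟩ := (range_subschι hT).ge h
  exact ⟨ζ, Flat55.GenericPoints.mem_of_forall_specializes fun y hy =>
    (VecSt.subschι X T hT).isClosedEmbedding.injective
      (Flat55.GenericPoints.eq_of_specializes hη
        (hy.map (VecSt.subschι X T hT).continuous)), rfl⟩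

/-- Off `T` the stalks of a push-forward vanish. -/
theorem subsingleton_push (J : (VecSt.subsch X T hT).Modules) {x : X} (hx : x ∉ T) :
    Subsingleton (((Coh.push (VecSt.subschι X T hT)).obj J).presheaf.stalk x) :=
  PushClosed.Unit.subsingleton_stalk_push _ J (by rwa [range_subschι])

/-- At a generic point in `T` the push-forward of a rank-one sheaf is nonzero. -/
theorem not_subsingleton_push {J : (VecSt.subsch X T hT).Modules}
    (hJ : TFOne.IsRkOne (VecSt.subsch X T hT) J) {η : X} (hη : η ∈ genericPoints X) (h : η ∈ T) :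
    ¬ Subsingleton (((Coh.push (VecSt.subschι X T hT)).obj J).presheaf.stalk η) := by
  obtain ⟨ζ, hζ, rfl⟩ := exists_generic hT hη h
  intro hs
  obtain ⟨e⟩ := hJ ζ hζ
  have hbij := PushClosed.Unit.bijective_pushStalkMap (VecSt.subschι X T hT) J ζ
  have : Subsingleton (J.presheaf.stalk ζ) := hbij.2.subsingleton
  exact one_ne_zero (e.symm.injective (Subsingleton.elim (e.symm 1) (e.symm 0)))

/-- Morphisms into the push-forward of a torsion-free sheaf are detected at generic points. -/
theorem eq_zero_push [IsLocallyNoetherian X] (hs : IsUnion T)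
    {J : (VecSt.subsch X T hT).Modules} [J.IsQuasicoherent] (hJ : TorSh.IsTorsionFree J)
    {M : X.Modules} (f : M ⟶ (Coh.push (VecSt.subschι X T hT)).obj J)
    (h : ∀ η ∈ genericPoints X, Modules.StalkModule.stalkMapₗ f η = 0) : f = 0 := by
  let ι := VecSt.subschι X T hT
  have : IsLocallyNoetherian (VecSt.subsch X T hT) := LocallyOfFiniteType.isLocallyNoetherian ι
  refine Scheme.Modules.hom_ext _ _ fun U => ConcreteCategory.ext_apply fun t => ?_
  change (f.app U t : Γ(J, ι ⁻¹ᵁ U)) = (0 : Γ(J, ι ⁻¹ᵁ U))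
  refine Modules.Support.eq_zero_of_germ_eq_zero (M := J) (U := ι ⁻¹ᵁ U) _ fun z hz _ =>
    Generic.germ_eq_zero hJ hz _ fun ζ hζ hζU => ?_
  refine (pushStalkMap_germ ι ζ J (U := U) hζU (f.app U t)).symm.trans ?_
  rw [← Modules.StalkModule.stalkMapₗ_germ f hζU, h _ (mem_genericPoints hT hs hζ)]
  exact map_zero (pushStalkMap ι ζ J).hom

/-- A point of `Spec O_x` is a minimal prime iff it is a generic point of `X`. -/
theorem mem_genericPoints_iff_minimal {Y : Scheme.{u}} {x : Y}
    (q : PrimeSpectrum (Y.presheaf.stalk x)) :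
    Y.fromSpecStalk x q ∈ genericPoints Y ↔ q.asIdeal ∈ minimalPrimes (Y.presheaf.stalk x) := by
  constructor
  · intro h
    refine ⟨⟨q.isPrime, bot_le⟩, fun p hp hle => le_of_eq ?_⟩
    let p' : PrimeSpectrum (Y.presheaf.stalk x) := ⟨p, hp.1⟩
    have hsp : Y.fromSpecStalk x p' ⤳ Y.fromSpecStalk x q :=
      ((PrimeSpectrum.le_iff_specializes p' q).mp hle).map (Y.fromSpecStalk x).continuous
    have h' : p' = q :=
      (Y.fromSpecStalk x).isEmbedding.injective (Flat55.GenericPoints.eq_of_specializes h hsp)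
    rw [← h']
  · intro h
    refine Flat55.GenericPoints.mem_of_forall_specializes fun y hy => ?_
    have hyx : y ∈ Set.range (Y.fromSpecStalk x) := by
      have hq : Y.fromSpecStalk x q ∈ Set.range (Y.fromSpecStalk x) := ⟨q, rfl⟩
      rw [Scheme.range_fromSpecStalk] at hq ⊢
      exact hy.trans hq
    obtain ⟨p, rfl⟩ := hyx
    have hle := (PrimeSpectrum.le_iff_specializes p q).mpr
      ((Y.fromSpecStalk x).isEmbedding.isInducing.specializes_iff.mp hy)
    have he : (p : PrimeSpectrum (Y.presheaf.stalk x)) = q :=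
      le_antisymm (α := PrimeSpectrum (Y.presheaf.stalk x)) hle (h.2 ⟨p.isPrime, bot_le⟩ hle)
    exact congrArg (Y.fromSpecStalk x) he

/-- Regular elements stay regular on a union of components. -/
theorem isRegular_stalkMap (hs : IsUnion T) (z : VecSt.subsch X T hT)
    {c : X.presheaf.stalk (VecSt.subschι X T hT z)} (hc : IsRegular c) :
    IsRegular ((VecSt.subschι X T hT).stalkMap z c) := by
  rw [isRegular_iff_mem_nonZeroDivisors, mem_nonZeroDivisors_iff_right]
  intro b hb
  have hb' : b ∈ nilradical ((VecSt.subsch X T hT).presheaf.stalk z) := by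
    rw [nilradical, ← Ideal.sInf_minimalPrimes, Submodule.mem_sInf]
    intro (q : Ideal _) hq
    have hqp : q.IsPrime := Ideal.minimalPrimes_isPrime hq
    refine (hqp.mem_or_mem (by rw [hb]; exact Ideal.zero_mem q)).resolve_right fun hcq => ?_
    let q' : PrimeSpectrum ((VecSt.subsch X T hT).presheaf.stalk z) := ⟨q, hqp⟩
    have hg := mem_genericPoints hT hs ((mem_genericPoints_iff_minimal q').mpr hq)
    have e := congrArg (fun g => g q')
      (Scheme.SpecMap_stalkMap_fromSpecStalk (f := VecSt.subschι X T hT) (x := z))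
    have hg' : X.fromSpecStalk (VecSt.subschι X T hT z)
        (Spec.map ((VecSt.subschι X T hT).stalkMap z) q') ∈ genericPoints X := by
      convert hg using 1
      exact e
    exact Set.disjoint_left.mp (Ideal.disjoint_nonZeroDivisors_of_mem_minimalPrimes
      ((mem_genericPoints_iff_minimal _).mp hg')) hcq (isRegular_iff_mem_nonZeroDivisors.mp hc)
  exact IsNilpotent.eq_zero (mem_nilradical.mp hb')

/-- The push-forward of a torsion-free sheaf from a union of components is torsion-free. -/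
theorem isTorsionFree_push [IsLocallyNoetherian X] [IsReduced X] (hs : IsUnion T)
    {J : (VecSt.subsch X T hT).Modules} [J.IsQuasicoherent] (hJ : TorSh.IsTorsionFree J) :
    TorSh.IsTorsionFree ((Coh.push (VecSt.subschι X T hT)).obj J) := fun x => by
  let ι := VecSt.subschι X T hT
  refine ⟨fun c hc => ?_⟩
  rw [isSMulRegular_iff_right_eq_zero_of_smul]
  intro v hv
  by_cases hx : x ∈ T
  swap
  · exact @Subsingleton.elim _ (subsingleton_push hT J hx) _ _
  obtain ⟨z, rfl⟩ := (range_subschι hT).ge hx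
  refine (PushClosed.Unit.bijective_pushStalkMap ι J z).1 ?_
  rw [map_zero]
  have hv' : (ι.stalkMap z).hom c • pushStalkMap ι z J v = 0 := by
    rw [← pushStalkMap_smul, hv, map_zero]
  exact ((hJ z).isSMulRegular (isRegular_stalkMap hT hs z hc)).right_eq_zero_of_smul hv'

section Over

variable {k : Type u} [Field k] [X.Over (Spec (CommRingCat.of k))]

lemma stalkMap_base {Z : Scheme.{u}} [Z.Over (Spec (CommRingCat.of k))] (f : Z ⟶ X)
    (hf : f ≫ (X ↘ Spec (CommRingCat.of k)) = Z ↘ Spec (CommRingCat.of k)) (z : Z) (c : k) :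
    (f.stalkMap z).hom (Simple.base (k := k) (f z) c) = Simple.base (k := k) z c := by
  change (f.stalkMap z).hom (X.presheaf.germ ⊤ (f z) trivial
    (Coh.toGlobal (X ↘ Spec (CommRingCat.of k)) c)) = Z.presheaf.germ ⊤ z trivial
      (Coh.toGlobal (Z ↘ Spec (CommRingCat.of k)) c)
  refine (Scheme.Hom.germ_stalkMap_apply f ⊤ z trivial _).trans ?_
  rw [← hf]
  rfl

/-- Endomorphisms of the push-forward of a simple sheaf are scalars on stalks. -/
theorem exists_scalar_push {J : (VecSt.subsch X T hT).Modules}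
    (hJ : TFOne.IsSimple (VecSt.subsch X T hT) k
      (VecSt.subschι X T hT ≫ (X ↘ Spec (CommRingCat.of k))) J)
    (g : (Coh.push (VecSt.subschι X T hT)).obj J ⟶ (Coh.push (VecSt.subschι X T hT)).obj J) :
    ∃ c : k, ∀ (x : X) (v : ((Coh.push (VecSt.subschι X T hT)).obj J).presheaf.stalk x),
      Modules.StalkModule.stalkMapₗ g x v = Simple.base x c • v := by
  let ι := VecSt.subschι X T hT
  let adj := Scheme.Modules.pullbackPushforwardAdjunction ι
  have : ∀ N, IsIso (adj.counit.app N) := fun N => Cyc.Dev.SchemeCase.isIso_counit ι N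
  have : IsIso adj.counit := NatIso.isIso_of_isIso_app _
  have := adj.fullyFaithfulROfIsIsoCounit.full
  obtain ⟨g₀, rfl⟩ := (Scheme.Modules.pushforward ι).map_surjective g
  obtain ⟨c, hc⟩ := hJ.2 g₀
  refine ⟨c, fun x v => ?_⟩
  by_cases hx : x ∈ T
  · obtain ⟨z, rfl⟩ := (range_subschι hT).ge hx
    refine (PushClosed.Unit.bijective_pushStalkMap ι J z).1 ?_
    rw [pushStalkMap_natural, pushStalkMap_smul]
    letI : (VecSt.subsch X T hT).Over (Spec (CommRingCat.of k)) :=
      ⟨ι ≫ (X ↘ Spec (CommRingCat.of k))⟩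
    have hs := Simple.stalkMap_smulMod (k := k) J c z (pushStalkMap ι z J v)
    rw [hc]
    refine hs.trans ?_
    rw [stalkMap_base ι rfl]
  · exact @Subsingleton.elim _ (subsingleton_push hT J hx) _ _

end Over

end Groth.Agent.Lib.TFOne.Push
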