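import Groth.Agent.Lib.TFOne.Euler
import Groth.Agent.Lib.TFOne.Push
import Groth.Agent.Lib.RefHull.Tensor
import Groth.Agent.Lib.Modules.DualAdj
import Groth.Agent.Lib.Modules.ProjFormula
import Groth.Agent.Lib.SurfInt.Push
import Groth.Agent.Lib.Cyc.Dev.SchemeEquiv
import Groth.Agent.Lib.CurveBundle.Coherent
import Groth.Agent.Lib.RefHull.Reflexive
import Groth.Agent.H34.DimOne

/-!
# Degrees of a vector bundle on subcurves

For a bundle `E` of rank `r`, `G ↦ χ(E ⊗ G) - r χ(G)` is additive and kills sheaves with finite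
support; at the structure sheaf of a subcurve it is the degree there, so degrees on subcurves add.
-/

set_option autoImplicit false
universe u

open CategoryTheory Limits AlgebraicGeometry Opposite TopologicalSpace
open scoped TensorProduct

namespace Groth.Agent.Lib.TFOne.EDeg

open Groth.Agent.Lib
open Groth.Agent.Lib.TensorMod.Basic (tmap rightUnit leftUnit)

variable {k : Type u} [Field k] {X : Scheme.{u}} [X.Over (Spec (CommRingCat.of k))]

section Torsion

variable (P : X.Modules) (S : Set X)

/-- Germs of a global section at the points of `S`. -/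
noncomputable def germs : Γ(P, ⊤) →+ ((x : S) → P.presheaf.stalk x.1) where
  toFun t x := P.presheaf.germ ⊤ x.1 trivial t
  map_zero' := funext fun _ => map_zero _
  map_add' _ _ := funext fun _ => map_add _ _ _

omit [X.Over (Spec (CommRingCat.of k))] in
theorem germs_bijective {P : X.Modules} {S : Set X} (hS : S.Finite)
    (hcl : ∀ x ∈ S, IsClosed ({x} : Set X)) (hP : CohB1.support P ⊆ S) :
    Function.Bijective (germs P S) := by
  refine ⟨(injective_iff_map_eq_zero _).mpr fun t ht => ?_, fun f => ?_⟩
  · exact Modules.Support.eq_zero_of_germ_eq_zero t fun x _ hx => congrFun ht ⟨x, hP hx⟩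
  choose V hV s hs using fun x : S => TopCat.Presheaf.exists_germ_eq P.presheaf (f x)
  have hrest : ∀ x : X, IsClosed (S \ {x}) := fun x => by
    rw [← Set.biUnion_of_singleton (S \ {x})]
    exact (hS.subset Set.sdiff_subset).isClosed_biUnion fun y hy => hcl y hy.1
  let U : Option S → X.Opens := fun o => o.elim ⟨Sᶜ, by
      have := hS.isClosed_biUnion (f := fun y => ({y} : Set X)) hcl
      rw [Set.biUnion_of_singleton] at this
      exact this.isOpen_compl⟩
    fun x => V x ⊓ ⟨(S \ {x.1})ᶜ, (hrest x.1).isOpen_compl⟩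
  let sf : ∀ o, Γ(P, U o) := fun o => match o with
    | none => 0
    | some x => P.presheaf.map (homOfLE (inf_le_left : U (some x) ≤ V x)).op (s x)
  have hone : ∀ (x : S) (z : X), z ∈ U (some x) → z ∈ S → z = x.1 := fun x z hz hzS =>
    by_contra fun h => hz.2 ⟨hzS, h⟩
  obtain ⟨t, ht, -⟩ := TopCat.Sheaf.existsUnique_gluing'
    (⟨P.presheaf, P.isSheaf⟩ : TopCat.Sheaf _ X) U ⊤ (fun _ => homOfLE le_top)
    (fun z _ => by
      rw [Opens.mem_iSup]
      by_cases hz : z ∈ S
      · exact ⟨some ⟨z, hz⟩, hV _, fun h => h.2 rfl⟩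
      · exact ⟨none, hz⟩)
    sf fun a b => by
      refine sub_eq_zero.mp (Modules.Support.eq_zero_of_germ_eq_zero (M := P) (U := U a ⊓ U b) _
        fun z hz hzs => ?_)
      rcases a with _ | x
      · exact absurd (hP hzs) hz.1
      rcases b with _ | y
      · exact absurd (hP hzs) hz.2
      obtain rfl : x = y := Subtype.ext ((hone x z hz.1 (hP hzs)).symm.trans (hone y z hz.2 (hP hzs)))
      rw [map_sub, sub_eq_zero]
      rfl
  refine ⟨t, funext fun x => ?_⟩
  have hx : x.1 ∈ U (some x) := ⟨hV x, fun h => h.2 rfl⟩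
  change P.presheaf.germ ⊤ x.1 trivial t = f x
  rw [← TopCat.Presheaf.germ_res_apply P.presheaf (homOfLE (le_top : U (some x) ≤ ⊤)) x.1 hx t]
  refine (congrArg (P.presheaf.germ (U (some x)) x.1 hx) (ht (some x))).trans ?_
  exact (TopCat.Presheaf.germ_res_apply P.presheaf _ x.1 hx (s x)).trans (hs x)

/-- Tensoring a sheaf with finite support by a bundle of rank `r` multiplies `χ` by `r`. -/
theorem euler_tensor_torsion [NoetherianSpace X] (hdim : topologicalKrullDim X ≤ 1)
    [IsProper (X ↘ Spec (CommRingCat.of k))] {E Q : X.Modules} {r : ℕ}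
    (hE : FlatMod.IsFinLocFreeOfRank r E) (hQ : Coh.IsCoh Q)
    (h0 : ∀ η ∈ genericPoints X, Subsingleton (Q.presheaf.stalk η)) :
    Curv2.euler k X (CohB1.tensorMod E Q) = r * Curv2.euler k X Q := by
  have := hQ.2
  let S := CohB1.support Q
  have hScl : IsClosed S := Modules.Support.isClosed_support Q
  have hS : S.Finite := H34.DimOne.finite_of_no_component hdim hScl fun Z hZ _ hle => by
    obtain ⟨η, hη, hηZ⟩ := Flat55.GenericPoints.exists_closure_eq hZ
    exact hle (hηZ.le (subset_closure (Set.mem_singleton η))) (h0 η hη)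
  have hcl : ∀ x ∈ S, IsClosed ({x} : Set X) := fun x hx =>
    (H34.DimOne.isClosed_or_component hdim x).resolve_right fun hc => hx (h0 x hc)
  have b := fun x : X => (CurveBundle.Coherent.exists_basis_stalk hE x).some
  let co : ∀ x : X, (CohB1.tensorMod E Q).presheaf.stalk x ≃ₗ[X.presheaf.stalk x]
      (Fin r → Q.presheaf.stalk x) := fun x =>
    (RefHull.Tensor.tStalk E Q x).trans ((TensorProduct.equivFinsuppOfBasisLeft (b x)).trans
      (Finsupp.linearEquivFunOnFinite _ _ _))
  have hsupp : CohB1.support (CohB1.tensorMod E Q) ⊆ S := fun x hx => by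
    by_contra hxS
    have : Subsingleton (Q.presheaf.stalk x) := Modules.Support.not_mem_support_iff.mp hxS
    exact hx (co x).injective.subsingleton
  let a := AddEquiv.ofBijective _ (germs_bijective hS hcl hsupp)
  let c := AddEquiv.ofBijective _ (germs_bijective hS hcl (subset_refl (CohB1.support Q)))
  let e : Γ(CohB1.tensorMod E Q, ⊤) ≃+ (Fin r → Γ(Q, ⊤)) :=
    a.trans ({ toFun := fun f j => c.symm fun x => co x.1 (f x) j
               invFun := fun g x => (co x.1).symm fun j => c (g j) x
               left_inv := fun f => funext fun x => by simp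
               right_inv := fun g => funext fun j => by simp
               map_add' := fun f g => funext fun j => by
                 rw [Pi.add_apply, ← map_add]
                 exact congrArg c.symm (funext fun x => by simp) } :
      ((x : S) → (CohB1.tensorMod E Q).presheaf.stalk x.1) ≃+ (Fin r → Γ(Q, ⊤)))
  have hc : ∀ (g : Γ(X, ⊤)) (q : Γ(Q, ⊤)) (x : S),
      c (g • q) x = X.presheaf.germ ⊤ x.1 trivial g • c q x :=
    fun g q x => Modules.StalkModule.germ_smul (M := Q) (U := ⊤) (x := x.1) trivial g q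
  have he : ∀ (g : Γ(X, ⊤)) m, e (g • m) = fun j => g • e m j := fun g m => funext fun j => by
    refine c.injective (funext fun x => ?_)
    rw [hc]
    change c (c.symm fun x => co x.1 (a (g • m) x) j) x = _ • c (c.symm fun x => co x.1 (a m x) j) x
    rw [AddEquiv.apply_symm_apply, AddEquiv.apply_symm_apply]
    rw [show a (g • m) x = X.presheaf.germ ⊤ x.1 trivial g • a m x from
      Modules.StalkModule.germ_smul (M := CohB1.tensorMod E Q) (U := ⊤) (x := x.1) trivial g m, map_smul]
    rfl
  letI := Curves.GlobalSections.secModule k (CohB1.tensorMod E Q)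
  letI := Curves.GlobalSections.secModule k Q
  let e' : ((CohB1.tensorMod E Q).val.obj (op ⊤) : Type u) ≃ₗ[k]
      (Fin r → (Q.val.obj (op ⊤) : Type u)) :=
    { e with map_smul' := fun z m => he _ m }
  have hfin : Module.Finite k (Q.val.obj (op ⊤) : Type u) :=
    have : FiniteDimensional k (Coh.HH X Q 0) := Snapper.Finite.cohFinite k X Q hQ 0
    Module.Finite.equiv (Curves.GlobalSections.h0Linear k Q)
  have hT : ∀ {P : X.Modules}, CohB1.support P ⊆ S →
      Curv2.euler k X P = (Module.finrank k (Coh.HH X P 0) : ℤ) := fun {P} hP =>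
    Curves.Positivity.IsTorsion.euler hdim fun x hx =>
      Modules.Support.not_mem_support_iff.mp fun h => hP h (h0 x hx)
  rw [hT hsupp, hT (subset_refl S),
    ((Curves.GlobalSections.h0Linear k (CohB1.tensorMod E Q)).trans e').finrank_eq,
    (Curves.GlobalSections.h0Linear k Q).finrank_eq, Module.finrank_pi_fintype]
  simp

end Torsion

section Deg

variable (k) in
/-- `χ(E ⊗ G) - r χ(G)`. -/
noncomputable def D (E : X.Modules) (r : ℕ) (G : X.Modules) : ℤ :=
  Curv2.euler k X (CohB1.tensorMod E G) - r * Curv2.euler k X G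

variable [IsProper (X ↘ Spec (CommRingCat.of k))] {E : X.Modules} {r : ℕ}

theorem D_add (hE : FlatMod.IsFinLocFreeOfRank r E) {S : ShortComplex X.Modules} (hS : S.ShortExact)
    (h₁ : Coh.IsCoh S.X₁) (h₂ : Coh.IsCoh S.X₂) (h₃ : Coh.IsCoh S.X₃) :
    D k E r S.X₂ = D k E r S.X₁ + D k E r S.X₃ := by
  have hE' := TensorMod.LocFree.of_rank hE
  have hdb := Modules.DualBasis.hasDBases_of_isFinLocFree hE'
  haveI : PreservesLimitsOfSize.{0, 0} (Modules.DualAdj.tensorL E) :=
    (Modules.DualAdj.adjunction hdb).rightAdjoint_preservesLimits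
  haveI : PreservesFiniteLimits (Modules.DualAdj.tensorL E) :=
    PreservesLimitsOfSize0.preservesFiniteLimits _
  haveI : PreservesColimitsOfSize.{0, 0} (Modules.DualAdj.tensorL E) :=
    preservesColimitsOfSize_shrink _
  haveI : PreservesFiniteColimits (Modules.DualAdj.tensorL E) :=
    PreservesColimitsOfSize0.preservesFiniteColimits _
  have hEc := CurveBundle.Coherent.isCoh hE'
  have e1 := ParBun.Proper.euler_add (k := k) hS h₁ h₂ h₃
  have e2 : Curv2.euler k X (CohB1.tensorMod E S.X₂) =
      Curv2.euler k X (CohB1.tensorMod E S.X₁) + Curv2.euler k X (CohB1.tensorMod E S.X₃) :=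
    ParBun.Proper.euler_add (S := S.map (Modules.DualAdj.tensorL E))
      (hS.map_of_exact (Modules.DualAdj.tensorL E)) (RefHull.Tensor.isCoh_tensorMod hEc h₁)
      (RefHull.Tensor.isCoh_tensorMod hEc h₂) (RefHull.Tensor.isCoh_tensorMod hEc h₃)
  simp only [D, e1, e2]
  ring

theorem D_eq_zero (hdim : topologicalKrullDim X ≤ 1) (hE : FlatMod.IsFinLocFreeOfRank r E)
    {Q : X.Modules} (hQ : Coh.IsCoh Q)
    (h0 : ∀ η ∈ genericPoints X, Subsingleton (Q.presheaf.stalk η)) : D k E r Q = 0 := by
  have := Curves.GlobalSections.noetherianSpace_of_proper k X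
  rw [D, euler_tensor_torsion hdim hE hQ h0, sub_self]

end Deg

section Structure

variable {T : Set X} (hT : IsClosed T)

/-- The structure sheaf of the reduced subscheme on `T`, on `X`. -/
noncomputable abbrev OT : X.Modules :=
  (Coh.push (VecSt.subschι X T hT)).obj (Coh.structureModule (VecSt.subsch X T hT))

/-- The restriction of functions to `T`. -/
noncomputable def toOT : Coh.structureModule X ⟶ OT hT :=
  (Scheme.Modules.pullbackPushforwardAdjunction (VecSt.subschι X T hT)).unit.app _ ≫
    (Scheme.Modules.pushforward (VecSt.subschι X T hT)).map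
      (PicLoc.pullbackStructureIso (VecSt.subschι X T hT)).hom

omit [X.Over (Spec (CommRingCat.of k))] in
theorem nontrivial_structure_stalk (Y : Scheme.{u}) (y : Y) :
    Nonempty ((Coh.structureModule Y).presheaf.stalk y ≃ₗ[Y.presheaf.stalk y]
      Y.presheaf.stalk y) := by
  obtain ⟨b⟩ := CurveBundle.Coherent.exists_basis_stalk
    (TensorMod.LocFree.of_isInvertible (PicLoc.isInvertible_structureModule Y)) y
  exact ⟨b.equivFun.trans (LinearEquiv.funUnique (Fin 1) _ _)⟩

omit [X.Over (Spec (CommRingCat.of k))] in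
theorem isTF1_structure [IsLocallyNoetherian X] :
    TFOne.IsTF1 X (Coh.structureModule X) :=
  ⟨CurveBundle.Coherent.isCoh (TensorMod.LocFree.of_rank
      (TensorMod.LocFree.of_isInvertible (PicLoc.isInvertible_structureModule X))),
    CurveBundle.Coherent.isTorsionFree (TensorMod.LocFree.of_rank
      (TensorMod.LocFree.of_isInvertible (PicLoc.isInvertible_structureModule X))),
    fun x _ => nontrivial_structure_stalk X x⟩

omit [X.Over (Spec (CommRingCat.of k))] in
theorem isQuotOn_OT [IsLocallyNoetherian X] [IsReduced X] (hs : Push.IsUnion T) :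
    TFOne.IsQuotOn X (Coh.structureModule X) T (OT hT) (toOT hT) := by
  have : IsLocallyNoetherian (VecSt.subsch X T hT) :=
    LocallyOfFiniteType.isLocallyNoetherian (VecSt.subschι X T hT)
  have hO := isTF1_structure (X := VecSt.subsch X T hT)
  have := hO.1.1
  have hi2 := ((Scheme.Modules.pushforward (VecSt.subschι X T hT)).mapIso
    (PicLoc.pullbackStructureIso (VecSt.subschι X T hT))).isIso_hom
  have hep := PushClosed.Unit.epi_unit (VecSt.subschι X T hT) (Coh.structureModule X)
  refine ⟨@epi_comp _ _ _ _ _ _ hep _ (@IsIso.epi_of_iso _ _ _ _ _ hi2), Cyc.Dev.SchemeEquiv.isCoh_push _ hO.1,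
    Push.isTorsionFree_push hT hs hO.2.1, subset_antisymm (fun x hx => ?_) fun x hx hsub => ?_⟩
  · exact by_contra fun h => hx (Push.subsingleton_push hT _ h)
  · obtain ⟨z, rfl⟩ := (Push.range_subschι hT).ge hx
    have hbij := PushClosed.Unit.bijective_pushStalkMap (VecSt.subschι X T hT)
      (Coh.structureModule (VecSt.subsch X T hT)) z
    obtain ⟨e⟩ := nontrivial_structure_stalk (VecSt.subsch X T hT) z
    have : Subsingleton ((Coh.structureModule (VecSt.subsch X T hT)).presheaf.stalk z) :=
      hbij.2.subsingleton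
    exact one_ne_zero (e.symm.injective (Subsingleton.elim (e.symm 1) (e.symm 0)))

/-- `D` at the structure sheaf of a subcurve is the degree on it. -/
theorem D_OT [IsProper (X ↘ Spec (CommRingCat.of k))] {E : X.Modules} {r : ℕ}
    (hE : FlatMod.IsFinLocFreeOfRank r E) :
    letI : (VecSt.subsch X T hT).Over (Spec (CommRingCat.of k)) :=
      ⟨VecSt.subschι X T hT ≫ (X ↘ Spec (CommRingCat.of k))⟩
    D k E r (OT hT) = Curv2.deg k (VecSt.subsch X T hT)
      ((Scheme.Modules.pullback (VecSt.subschι X T hT)).obj E) r := by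
  letI : (VecSt.subsch X T hT).Over (Spec (CommRingCat.of k)) :=
    ⟨VecSt.subschι X T hT ≫ (X ↘ Spec (CommRingCat.of k))⟩
  let ι := VecSt.subschι X T hT
  have hdb := Modules.DualBasis.hasDBases_of_isFinLocFree (TensorMod.LocFree.of_rank hE)
  let P := (Scheme.Modules.pullback ι).obj E
  have e : CohB1.tensorMod E (OT hT) ≅ (Coh.push ι).obj P :=
    (Modules.ProjFormula.projIso ι hdb).app (Coh.structureModule (VecSt.subsch X T hT)) ≪≫
      (Coh.push ι).mapIso (rightUnit P)
  haveI : E.IsQuasicoherent := (CurveBundle.Coherent.isCoh (TensorMod.LocFree.of_rank hE)).1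
  haveI : P.IsQuasicoherent := QCoh.Pullback.isQCoh_pullback ι E
  haveI := CurveBundle.Coherent.isQCoh_unit (VecSt.subsch X T hT)
  rw [D, Curv2.deg, Curves.Euler.euler_eq_of_iso e, SurfInt.Push.euler_push ι rfl P,
    SurfInt.Push.euler_push ι rfl (Coh.structureModule (VecSt.subsch X T hT))]

/-- Degrees on subcurves add. -/
theorem deg_union [IsProper (X ↘ Spec (CommRingCat.of k))] [IsReduced X]
    (hpure : ∀ C ∈ irreducibleComponents (X : Type u), topologicalKrullDim C = 1) {E : X.Modules}
    {r : ℕ} (hE : FlatMod.IsFinLocFreeOfRank r E) {Y Z W : Set X} (hY : IsClosed Y)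
    (hZ : IsClosed Z) (hYu : Push.IsUnion Y) (hZu : Push.IsUnion Z)
    (hW : W = ⋃₀ {C | C ∈ irreducibleComponents (X : Type u) ∧ C ⊆ Y ∩ Z}) (hWc : IsClosed W) :
    D k E r (OT (hY.union hZ)) + D k E r (OT hWc) = D k E r (OT hY) + D k E r (OT hZ) := by
  have := LocallyOfFiniteType.isLocallyNoetherian (X ↘ Spec (CommRingCat.of k))
  have := Curves.GlobalSections.noetherianSpace_of_proper k X
  obtain ⟨C, hC, hC0, hF⟩ := Euler.exists_union_data (isTF1_structure (X := X)) hY hZ hW
    (isQuotOn_OT hY hYu) (isQuotOn_OT hZ hZu) (isQuotOn_OT (hY.union hZ) (Push.isUnion_union hYu hZu))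
    (isQuotOn_OT hWc (hW ▸ Push.isUnion_setOf _))
  have h := hF (D k E r) fun S hS h₁ h₂ h₃ => D_add hE hS h₁ h₂ h₃
  rw [D_eq_zero (Euler.dim_le hpure) hE hC hC0, add_zero] at h
  exact h.symm

end Structure

end Groth.Agent.Lib.TFOne.EDeg
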