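import Groth.Agent.Lib.TFOne.Decomp
import Groth.Agent.Lib.TFOne.Push
import Groth.Agent.Lib.Devissage.Sky
import Groth.Agent.Lib.QCoh.Closure

/-!
# Existence of torsion-free quotients on unions of components
-/

set_option autoImplicit false
universe u

open CategoryTheory Limits AlgebraicGeometry Opposite TopologicalSpace

namespace Groth.Agent.Lib.TFOne.Quot

open Groth.Agent.Lib
open Groth.Agent.Lib.Devissage.Sky (sky toSky stalkMapₗ_toSky stalkEquiv isQCoh_sky)

variable {X : Scheme.{u}}

/-- Torsion-free quotients on unions of components exist. -/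
theorem exists_quot [IsReduced X] [IsNoetherian X] {M : X.Modules} (hM : TFOne.IsTF1 X M)
    {T : Set X} (hT : Push.IsUnion T) : ∃ (G : X.Modules) (π : M ⟶ G), TFOne.IsQuotOn X M T G π := by
  classical
  have hTc := hT.isClosed
  let J := {η : X // η ∈ genericPoints X ∧ η ∈ T}
  have : Finite J := ((genericPoints.finite NoetherianSpace.finite_irreducibleComponents).subset
    fun η (h : η ∈ {η | η ∈ genericPoints X ∧ η ∈ T}) => h.1).to_subtype
  obtain ⟨n, ⟨ej⟩⟩ := Finite.exists_equiv_fin J
  have : HasFiniteBiproducts X.Modules := HasFiniteBiproducts.of_hasFiniteProducts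
  let pt : Fin n → J := fun j => ej.symm j
  let fam : Fin n → X.Modules := fun j => sky (pt j).1 (M.presheaf.stalk (pt j).1)
  have hfam : ∀ j, (fam j).IsQuasicoherent := fun j => isQCoh_sky _ _ fun a ha l => by
    let η := pt j
    have hF : IsField (X.presheaf.stalk η.1) :=
      ModelFibre.MaxPoint.isField_stalk fun y hy => Flat55.GenericPoints.eq_of_specializes η.2.1 hy
    refine ⟨1, ?_⟩
    by_cases h0 : a = 0
    · rw [h0, pow_one, zero_smul]
    · obtain ⟨b, hb⟩ := hF.mul_inv_cancel h0
      exact absurd (IsUnit.of_mul_eq_one b hb) ha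
  let v : M ⟶ ⨁ fam := biproduct.lift fun j => toSky (M := M) (y := (pt j).1) LinearMap.id
  have hv : ∀ η : J, ∃ p : ⨁ fam ⟶ sky η.1 (M.presheaf.stalk η.1),
      v ≫ p = toSky (M := M) (y := η.1) LinearMap.id := fun η => by
    obtain ⟨j, rfl⟩ := ej.symm.surjective η
    exact ⟨biproduct.π fam j, biproduct.lift_π _ _⟩
  have hP : (⨁ fam).IsQuasicoherent :=
    QCoh.Closure.isQCoh_of_isColimit (biproduct.isColimit fam) fun ⟨η⟩ => hfam η
  have := hM.1.1
  have hK : (kernel v).IsQuasicoherent := QCoh.Closure.isQCoh_kernel v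
  let G := Abelian.coimage v
  let π : M ⟶ G := Abelian.coimage.π v
  let μ : G ⟶ ⨁ fam := Abelian.factorThruCoimage v
  have hπμ : π ≫ μ = v := Abelian.coimage.fac v
  have hG : Coh.IsCoh G := CohBasics.Closure.isCoh_cokernel (kernel.ι v) hK hM.1
  have := hG.1
  -- a section of `G` vanishes once its components at the points of `J` vanish
  have hzero : ∀ {W : X.Opens} (t : Γ(M, W)),
      (∀ η : J, ∀ hη : η.1 ∈ W, M.presheaf.germ W η.1 hη t = 0) → π.app W t = 0 := by
    intro W t ht
    refine (Modules.Stalk.mono_iff_app_injective μ).mp inferInstance W ?_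
    rw [map_zero, ← ConcreteCategory.comp_apply, ← Scheme.Modules.Hom.comp_app, hπμ]
    have htot : v = ∑ η, (v ≫ biproduct.π fam η) ≫ biproduct.ι fam η := by
      simp only [Category.assoc, ← Preadditive.comp_sum]
      exact ((congrArg (v ≫ ·) (biproduct.total (f := fam))).trans (Category.comp_id v)).symm
    rw [htot, TensorMod.LocIso.sum_app]
    refine Finset.sum_eq_zero fun η _ => ?_
    rw [Scheme.Modules.Hom.comp_app, ConcreteCategory.comp_apply, biproduct.lift_π]
    refine (congrArg ((biproduct.ι fam η).app W) ?_).trans (map_zero _)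
    exact funext fun (h : PLift ((pt η).1 ∈ W)) => ht (pt η) h.down
  have hnat : ∀ {W W' : X.Opens} (i : W' ≤ W) (t : Γ(M, W)),
      G.presheaf.map (homOfLE i).op (π.app W t) = π.app W' (M.presheaf.map (homOfLE i).op t) :=
    fun i t => (ConcreteCategory.congr_hom (π.mapPresheaf.naturality (homOfLE i).op) t).symm
  have hepi : Epi π := inferInstance
  have hgerm : ∀ (x : X) (g : G.presheaf.stalk x), ∃ (W : X.Opens) (hx : x ∈ W) (t : Γ(M, W)),
      G.presheaf.germ W x hx (π.app W t) = g := by
    intro x g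
    obtain ⟨m, rfl⟩ := (Modules.StalkModule.epi_iff_stalkMapₗ_surjective π).mp hepi x g
    obtain ⟨W, hx, t, rfl⟩ := TopCat.Presheaf.exists_germ_eq M.presheaf m
    exact ⟨W, hx, t, (Modules.StalkModule.stalkMapₗ_germ π hx t).symm⟩
  refine ⟨G, π, hepi, hG, fun x => ⟨fun c hc => ?_⟩, subset_antisymm (fun x hx => ?_) ?_⟩
  · -- torsion-free
    rw [isSMulRegular_iff_right_eq_zero_of_smul]
    intro g hg
    obtain ⟨W, hx, t, rfl⟩ := hgerm x g
    have hbad : IsClosed (⋃ η ∈ {η : J | ¬ η.1 ⤳ x}, closure ({η.1} : Set X)) :=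
      (Set.toFinite _).isClosed_biUnion fun _ _ => isClosed_closure
    have hxbad : x ∉ ⋃ η ∈ {η : J | ¬ η.1 ⤳ x}, closure ({η.1} : Set X) := by
      simp only [Set.mem_iUnion, exists_prop, not_exists, not_and]
      exact fun η hη hmem => hη (specializes_iff_mem_closure.2 hmem)
    let W' : X.Opens := W ⊓ ⟨_, hbad.isOpen_compl⟩
    have hx' : x ∈ W' := ⟨hx, hxbad⟩
    rw [← TopCat.Presheaf.germ_res_apply G.presheaf (homOfLE (inf_le_left : W' ≤ W)) x hx', hnat]
    refine (congrArg (G.presheaf.germ W' x hx') (hzero _ fun η hη => ?_)).trans (map_zero _)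
    rw [TopCat.Presheaf.germ_res_apply M.presheaf]
    have hsp : η.1 ⤳ x := by
      by_contra h
      exact hη.2 (Set.mem_biUnion (x := η) h (subset_closure (Set.mem_singleton _)))
    -- specialise the relation to `η`
    have hgη : X.presheaf.stalkSpecializes hsp c •
        G.presheaf.germ W η.1 hη.1 (π.app W t) = 0 := by
      obtain ⟨U, hU, r, rfl⟩ := TopCat.Presheaf.exists_germ_eq X.presheaf c
      have hη' : η.1 ∈ U := hsp.mem_open U.isOpen hU
      rw [TopCat.Presheaf.germ_stalkSpecializes_apply]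
      have e := congrArg (G.presheaf.stalkSpecializes hsp) hg
      rw [map_zero] at e
      rw [← TopCat.Presheaf.germ_res_apply G.presheaf (homOfLE (inf_le_right : U ⊓ W ≤ W)) η.1
          ⟨hη', hη.1⟩,
        ← TopCat.Presheaf.germ_res_apply X.presheaf (homOfLE (inf_le_left : U ⊓ W ≤ U)) η.1
          ⟨hη', hη.1⟩, ← Modules.StalkModule.germ_smul]
      rw [← TopCat.Presheaf.germ_res_apply G.presheaf (homOfLE (inf_le_right : U ⊓ W ≤ W)) x
          ⟨hU, hx⟩,
        ← TopCat.Presheaf.germ_res_apply X.presheaf (homOfLE (inf_le_left : U ⊓ W ≤ U)) x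
          ⟨hU, hx⟩, ← Modules.StalkModule.germ_smul,
        TopCat.Presheaf.germ_stalkSpecializes_apply] at e
      exact e
    have hF : IsField (X.presheaf.stalk η.1) :=
      ModelFibre.MaxPoint.isField_stalk fun y hy => Flat55.GenericPoints.eq_of_specializes η.2.1 hy
    have hc0 : X.presheaf.stalkSpecializes hsp c ≠ 0 := by
      intro h0
      let qη : PrimeSpectrum (X.presheaf.stalk x) :=
        ⟨RingHom.ker (X.presheaf.stalkSpecializes hsp).hom, by
          letI := hF.isDomain
          exact RingHom.ker_isPrime _⟩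
      have hpt : X.fromSpecStalk x qη = η.1 := by
        have e := congrArg (fun (g : Spec (X.presheaf.stalk η.1) ⟶ X) =>
          g (IsLocalRing.closedPoint (X.presheaf.stalk η.1)))
          (Scheme.SpecMap_stalkSpecializes_fromSpecStalk (X := X) hsp)
        have h2 : X.fromSpecStalk η.1 (IsLocalRing.closedPoint (X.presheaf.stalk η.1)) = η.1 :=
          Scheme.fromSpecStalk_closedPoint
        rw [h2] at e
        refine Eq.trans (congrArg (X.fromSpecStalk x) (PrimeSpectrum.ext ?_)) e
        change RingHom.ker _ = (IsLocalRing.maximalIdeal _).comap _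
        rw [(IsLocalRing.isField_iff_maximalIdeal_eq).mp hF, RingHom.ker_eq_comap_bot]
      exact Set.disjoint_left.mp (Ideal.disjoint_nonZeroDivisors_of_mem_minimalPrimes
        ((Push.mem_genericPoints_iff_minimal qη).mp (hpt ▸ η.2.1))) (show c ∈ qη.asIdeal from h0)
        (isRegular_iff_mem_nonZeroDivisors.mp hc)
    -- the component at `η` is injective
    obtain ⟨d, hd⟩ := hF.mul_inv_cancel hc0
    have hgη' : G.presheaf.germ W η.1 hη.1 (π.app W t) = 0 := by
      have := congrArg (d • ·) hgη
      simp only [smul_zero, smul_smul, mul_comm d, hd, one_smul] at this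
      exact this
    refine (stalkEquiv η.1 (M.presheaf.stalk η.1)).injective ?_
    rw [map_zero]
    refine (stalkMapₗ_toSky LinearMap.id (M.presheaf.germ W η.1 hη.1 t)).symm.trans ?_
    obtain ⟨p, hp⟩ := hv η
    rw [show toSky (M := M) (y := η.1) LinearMap.id = π ≫ μ ≫ p by
      rw [← Category.assoc, hπμ, hp], Modules.StalkModule.stalkMapₗ_comp,
      LinearMap.comp_apply, Modules.StalkModule.stalkMapₗ_germ, hgη', map_zero]
  · -- support inside `T`
    by_contra hxT
    refine hx (subsingleton_of_forall_eq 0 fun g => ?_)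
    obtain ⟨W, hxW, t, rfl⟩ := hgerm x g
    let W' : X.Opens := W ⊓ ⟨Tᶜ, hTc.isOpen_compl⟩
    rw [← TopCat.Presheaf.germ_res_apply G.presheaf (homOfLE (inf_le_left : W' ≤ W)) x ⟨hxW, hxT⟩,
      hnat]
    exact (congrArg (G.presheaf.germ W' x _) (hzero _ fun η hη => absurd η.2.2 hη.2)).trans
      (map_zero _)
  · -- support contains `T`
    refine Decomp.subset_support hG fun x hx => ?_
    obtain ⟨𝒮, h𝒮, hTeq⟩ := hT
    obtain ⟨C, hC, hxC⟩ := (Set.ext_iff.mp hTeq x).mp hx
    obtain ⟨η, hη, hηC⟩ := Flat55.GenericPoints.exists_closure_eq (h𝒮 hC)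
    have hηT : η ∈ T :=
      (Set.ext_iff.mp hTeq η).mpr ⟨C, hC, hηC.le (subset_closure (Set.mem_singleton η))⟩
    refine ⟨η, hηT, specializes_iff_mem_closure.2 (hηC.ge hxC), fun hsub => ?_⟩
    obtain ⟨e⟩ := hM.2.2 η hη
    have h := stalkMapₗ_toSky (M := M) (y := η) LinearMap.id (e.symm 1)
    obtain ⟨p, hp⟩ := hv ⟨η, hη, hηT⟩
    rw [show toSky (M := M) (y := η) LinearMap.id = π ≫ μ ≫ p by
      rw [← Category.assoc, hπμ, hp], Modules.StalkModule.stalkMapₗ_comp,
      LinearMap.comp_apply, Subsingleton.elim (Modules.StalkModule.stalkMapₗ π η (e.symm 1)) 0,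
      map_zero] at h
    exact one_ne_zero (e.symm.injective ((((stalkEquiv η (M.presheaf.stalk η)).injective
      (h.symm.trans (map_zero _).symm))).trans (map_zero e.symm).symm))

end Groth.Agent.Lib.TFOne.Quot
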