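import Groth.Agent.Lib.TFOne.EDeg
import Groth.Agent.Lib.TFOne.Quot

/-!
# Euler characteristics and β-numbers of an elementary modification

`I` is torsion-free of rank one, `GY` its quotient on `Y`, and `Ms` an extension of `ker (I → GY)` by
`GY`, again torsion-free of rank one.
-/

set_option autoImplicit false
universe u

open CategoryTheory Limits AlgebraicGeometry Opposite TopologicalSpace

namespace Groth.Agent.Lib.TFOne.ModBeta

open Groth.Agent.Lib

variable {k : Type u} [Field k] {X : Scheme.{u}} [X.Over (Spec (CommRingCat.of k))]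

section Sets

omit [X.Over (Spec (CommRingCat.of k))]

/-- Unions of components are determined by their generic points. -/
theorem union_subset_of_generic {A B : Set X} (hA : Push.IsUnion A) (hB : IsClosed B)
    (h : ∀ η ∈ genericPoints X, η ∈ A → η ∈ B) : A ⊆ B := by
  obtain ⟨𝒮, h𝒮, rfl⟩ := hA
  refine Set.sUnion_subset fun C hC => ?_
  obtain ⟨η, hη, hηC⟩ := Flat55.GenericPoints.exists_closure_eq (h𝒮 hC)
  rw [← hηC]
  exact closure_minimal (Set.singleton_subset_iff.mpr
    (h η hη ⟨C, hC, hηC.le (subset_closure (Set.mem_singleton η))⟩)) hB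

theorem union_ext [NoetherianSpace X] {A B : Set X} (hA : Push.IsUnion A) (hB : Push.IsUnion B)
    (h : ∀ η ∈ genericPoints X, (η ∈ A ↔ η ∈ B)) : A = B :=
  subset_antisymm (union_subset_of_generic hA hB.isClosed fun η hη => (h η hη).mp)
    (union_subset_of_generic hB hA.isClosed fun η hη => (h η hη).mpr)

theorem isUnion_univ : Push.IsUnion (Set.univ : Set X) :=
  ⟨irreducibleComponents (X : Type u), subset_rfl, sUnion_irreducibleComponents.symm⟩

theorem isUnion_empty : Push.IsUnion (∅ : Set X) :=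
  ⟨∅, Set.empty_subset _, Set.sUnion_empty.symm⟩

theorem isSubcurve_of_nonempty {A : Set X} (hA : Push.IsUnion A) (h : A.Nonempty) :
    VecSt.IsSubcurve X A := by
  obtain ⟨𝒮, h𝒮, rfl⟩ := hA
  obtain ⟨x, C, hC, -⟩ := h
  exact ⟨𝒮, h𝒮, ⟨C, hC⟩, rfl⟩

theorem mem_meet_iff {Y Z : Set X} (hY : IsClosed Y) (hZ : IsClosed Z) {η : X}
    (hη : η ∈ genericPoints X) :
    η ∈ ⋃₀ {C | C ∈ irreducibleComponents (X : Type u) ∧ C ⊆ Y ∩ Z} ↔ η ∈ Y ∧ η ∈ Z := by
  constructor
  · rintro ⟨C, ⟨-, hC⟩, hmem⟩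
    exact hC hmem
  · intro h
    exact ⟨closure {η}, ⟨hη, Set.subset_inter
      (closure_minimal (Set.singleton_subset_iff.mpr h.1) hY)
      (closure_minimal (Set.singleton_subset_iff.mpr h.2) hZ)⟩, subset_closure (Set.mem_singleton η)⟩

theorem mem_compl_iff [NoetherianSpace X] {Y : Set X} (hY : IsClosed Y) {η : X}
    (hη : η ∈ genericPoints X) :
    η ∈ ⋃₀ {C | C ∈ irreducibleComponents (X : Type u) ∧ ¬ C ⊆ Y} ↔ η ∉ Y := by
  constructor
  · rintro ⟨C, ⟨hC, hCY⟩, hmem⟩ hY'
    obtain ⟨ζ, hζ, hζC⟩ := Flat55.GenericPoints.exists_closure_eq hC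
    have hsp : ζ ⤳ η := specializes_iff_mem_closure.2 (hζC.ge hmem)
    obtain rfl := Flat55.GenericPoints.eq_of_specializes hη hsp
    exact hCY (hζC ▸ closure_minimal (Set.singleton_subset_iff.mpr hY') hY)
  · intro h
    exact ⟨closure {η}, ⟨hη, fun hsub => h (hsub (subset_closure (Set.mem_singleton η)))⟩,
      subset_closure (Set.mem_singleton η)⟩

end Sets

section Unique

omit [X.Over (Spec (CommRingCat.of k))]
variable [IsReduced X] [IsLocallyNoetherian X]

/-- Torsion-free quotients on the same set are isomorphic. -/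
theorem iso_of_quot {M G H : X.Modules} {T : Set X} {π : M ⟶ G} {ρ : M ⟶ H}
    (hM : TFOne.IsTF1 X M) (hG : TFOne.IsQuotOn X M T G π) (hH : TFOne.IsQuotOn X M T H ρ) :
    Nonempty (G ≅ H) := by
  have := hG.2.1.1
  have := hH.2.1.1
  have hz : ∀ {A : X.Modules} {σ : M ⟶ A}, TFOne.IsQuotOn X M T A σ → ∀ η ∈ genericPoints X,
      η ∉ T → Modules.StalkModule.stalkMapₗ σ η = 0 := fun hA η _ h => LinearMap.ext fun _ =>
    @Subsingleton.elim _ (Generic.subsingleton_stalk hA h) _ _
  obtain ⟨a, ha⟩ := Generic.exists_factor hM hG hH.2.2.1 ρ (hz hH)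
  obtain ⟨b, hb⟩ := Generic.exists_factor hM hH hG.2.2.1 π (hz hG)
  have := hG.1
  have := hH.1
  exact ⟨⟨a, b, by rw [← cancel_epi π, ← Category.assoc, ha, hb, Category.comp_id],
    by rw [← cancel_epi ρ, ← Category.assoc, hb, ha, Category.comp_id]⟩⟩

/-- A quotient map on the whole space is an isomorphism. -/
theorem isIso_univ {M G : X.Modules} {π : M ⟶ G} (hM : TFOne.IsTF1 X M)
    (hG : TFOne.IsQuotOn X M Set.univ G π) : IsIso π := by
  have := hM.1.1
  have := hG.1
  have : Mono π := Generic.mono_of_generic hM.2.1 π fun η hη =>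
    (Generic.bijective_stalk hM hG hη trivial).1
  exact isIso_of_mono_of_epi π

omit [IsReduced X] [IsLocallyNoetherian X] in
theorem isZero_empty {M G : X.Modules} {π : M ⟶ G} (hG : TFOne.IsQuotOn X M ∅ G π) : IsZero G :=
  Modules.Support.support_eq_empty_iff.mp hG.2.2.2

end Unique

variable [IsProper (X ↘ Spec (CommRingCat.of k))]

theorem euler_isZero {Z : X.Modules} (h : IsZero Z) (hZ : Coh.IsCoh Z) : Curv2.euler k X Z = 0 := by
  have e := ParBun.Proper.euler_add (k := k)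
    (S := ShortComplex.mk (biprod.inl : Z ⟶ Z ⊞ Z) biprod.snd biprod.inl_snd)
    (ShortComplex.Splitting.ofHasBinaryBiproduct Z Z).shortExact hZ
    (CohBasics.Closure.isCoh_biprod hZ hZ) hZ
  have hb : IsZero (Z ⊞ Z) := by
    rw [IsZero.iff_id_eq_zero]
    apply biprod.hom_ext <;> exact h.eq_of_tgt _ _
  rw [Curves.Euler.euler_eq_of_iso (hb.iso h)] at e
  dsimp only at e
  omega

variable [IsReduced X]

/-- A torsion sheaf of Euler characteristic zero vanishes. -/
theorem isZero_of_euler (hdim : topologicalKrullDim X ≤ 1) {Q : X.Modules} (hQ : Coh.IsCoh Q)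
    (h : ∀ η ∈ genericPoints X, Subsingleton (Q.presheaf.stalk η))
    (h0 : Curv2.euler k X Q = 0) : IsZero Q := by
  have := Curves.GlobalSections.noetherianSpace_of_proper k X
  have hT : Curves.Positivity.IsTorsion Q := fun x hx => h x hx
  have := hT.flasque hdim
  rw [hT.euler hdim, Nat.cast_eq_zero] at h0
  have : FiniteDimensional k (Coh.HH X Q 0) := Snapper.Finite.cohFinite k X Q hQ 0
  exact Curves.Positivity.isZero_of_flasque (Module.finrank_zero_iff.mp h0)

section Calc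

variable (hpure : ∀ C ∈ irreducibleComponents (X : Type u), topologicalKrullDim C = 1)
  {I : X.Modules} (hI : TFOne.IsTF1 X I) {Y : Set X} (hY : IsClosed Y) {GY : X.Modules}
  {πY : I ⟶ GY} (hGY : TFOne.IsQuotOn X I Y GY πY) {Ms : X.Modules} (hMs : TFOne.IsTF1 X Ms)
  {j : GY ⟶ Ms} {p : Ms ⟶ kernel πY} {w : j ≫ p = 0} (hex : (ShortComplex.mk j p w).ShortExact)

include hpure hI hY hGY hMs hex

/-- `χ(Ms_Z) + χ(I_Y) = χ(I_W) + χ(I_U) + e` with a defect `e ≥ 0`. -/
theorem exists_defect {Z W U : Set X} (hZ : IsClosed Z)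
    (hW : ∀ η ∈ genericPoints X, (η ∈ W ↔ η ∈ Y ∧ η ∈ Z))
    (hU : ∀ η ∈ genericPoints X, (η ∈ U ↔ η ∈ Y ∨ η ∈ Z)) {GZ1 GW GU : X.Modules} {π1 : Ms ⟶ GZ1}
    {πW : I ⟶ GW} {πU : I ⟶ GU} (hGZ1 : TFOne.IsQuotOn X Ms Z GZ1 π1)
    (hGW : TFOne.IsQuotOn X I W GW πW) (hGU : TFOne.IsQuotOn X I U GU πU) :
    ∃ e : ℤ, 0 ≤ e ∧
      Curv2.euler k X GZ1 + Curv2.euler k X GY = Curv2.euler k X GW + Curv2.euler k X GU + e ∧
      (W = ∅ ∨ U = Set.univ → e = 0) := by
  have := LocallyOfFiniteType.isLocallyNoetherian (X ↘ Spec (CommRingCat.of k))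
  have := Curves.GlobalSections.noetherianSpace_of_proper k X
  have := hI.1.1
  have := hMs.1.1
  have := hGY.2.1.1
  have := hGZ1.2.1.1
  have := hGW.2.1.1
  have := hGU.2.1.1
  have := hGY.1
  have := hGZ1.1
  have := hGW.1
  have := hGU.1
  have : Mono j := hex.mono_f
  have hpepi : Epi p := hex.epi_g
  have hcomp : ∀ {A B C : X.Modules} (a : A ⟶ B) (b : B ⟶ C) (x : X) (v : A.presheaf.stalk x),
      Modules.StalkModule.stalkMapₗ (a ≫ b) x v =
        Modules.StalkModule.stalkMapₗ b x (Modules.StalkModule.stalkMapₗ a x v) :=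
    fun a b x v => by rw [Modules.StalkModule.stalkMapₗ_comp]; rfl
  have hz : ∀ {A B : X.Modules} (f : A ⟶ B) {η : X}, Subsingleton (B.presheaf.stalk η) →
      Modules.StalkModule.stalkMapₗ f η = 0 := fun f η h => LinearMap.ext fun _ =>
    @Subsingleton.elim _ h _ _
  have hjex : ∀ x (v : Ms.presheaf.stalk x), Modules.StalkModule.stalkMapₗ p x v = 0 →
      ∃ g, Modules.StalkModule.stalkMapₗ j x g = v := fun x v hv =>
    ((ShortComplex.ab_exact_iff_function_exact _).mp
      ((Modules.Stalk.exact_iff_stalk _).mp hex.exact x) v).mp hv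
  let κ : kernel πY ⟶ I := kernel.ι πY
  have hK0 : ∀ η ∈ genericPoints X, η ∈ Y → Subsingleton ((kernel πY).presheaf.stalk η) :=
    fun η hη h => subsingleton_of_forall_eq 0 fun v =>
      (Modules.StalkModule.mono_iff_stalkMapₗ_injective κ).mp inferInstance η (by
        rw [map_zero]
        refine (Generic.bijective_stalk hI hGY hη h).1 ?_
        rw [map_zero, ← hcomp, kernel.condition, Modules.StalkModule.stalkMapₗ_zero]
        rfl)
  have hjbij : ∀ η ∈ genericPoints X, η ∈ Y →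
      Function.Bijective (Modules.StalkModule.stalkMapₗ j η) := fun η hη h =>
    ⟨(Modules.StalkModule.mono_iff_stalkMapₗ_injective j).mp inferInstance η,
      fun v => hjex η v (@Subsingleton.elim _ (hK0 η hη h) _ _)⟩
  -- `a : GW ⟶ GZ1`
  obtain ⟨a, ha⟩ := Generic.exists_factor hI hGW hGZ1.2.2.1 (πY ≫ j ≫ π1) fun η hη h => by
    by_cases hηZ : η ∈ Z
    · have hηY : η ∉ Y := fun h' => h ((hW η hη).mpr ⟨h', hηZ⟩)
      rw [Modules.StalkModule.stalkMapₗ_comp, hz πY (Generic.subsingleton_stalk hGY hηY),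
        LinearMap.comp_zero]
    · exact hz _ (Generic.subsingleton_stalk hGZ1 hηZ)
  have hab : ∀ η ∈ genericPoints X, η ∈ W → Function.Bijective (Modules.StalkModule.stalkMapₗ a η) := by
    intro η hη h
    obtain ⟨hηY, hηZ⟩ := (hW η hη).mp h
    have hb : Function.Bijective (Modules.StalkModule.stalkMapₗ (πY ≫ j ≫ π1) η) := by
      rw [Modules.StalkModule.stalkMapₗ_comp, Modules.StalkModule.stalkMapₗ_comp, LinearMap.coe_comp,
        LinearMap.coe_comp]
      exact ((Generic.bijective_stalk hMs hGZ1 hη hηZ).comp (hjbij η hη hηY)).comp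
        (Generic.bijective_stalk hI hGY hη hηY)
    rw [← ha, Modules.StalkModule.stalkMapₗ_comp, LinearMap.coe_comp] at hb
    exact (Function.Bijective.of_comp_iff _ (Generic.bijective_stalk hI hGW hη h)).mp hb
  have : Mono a := Generic.mono_of_generic hGW.2.2.1 a fun η hη => by
    by_cases h : η ∈ W
    · exact (hab η hη h).1
    · exact fun u v _ => @Subsingleton.elim _ (Generic.subsingleton_stalk hGW h) u v
  -- `K' = ker (GU ⟶ GY)`
  obtain ⟨ρ, hρ⟩ := Generic.exists_factor hI hGU hGY.2.2.1 πY fun η hη h =>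
    hz πY (Generic.subsingleton_stalk hGY fun h' => h ((hU η hη).mpr (Or.inl h')))
  have : Epi ρ := epi_of_epi_fac hρ
  let k₀ : kernel πY ⟶ kernel ρ := kernel.lift ρ (κ ≫ πU)
    (by rw [Category.assoc, hρ]; exact kernel.condition πY)
  have hk₀ : k₀ ≫ kernel.ι ρ = κ ≫ πU := kernel.lift_ι _ _ _
  have hKc : Coh.IsCoh (kernel ρ) := CohBasics.Closure.isCoh_kernel ρ hGU.2.1 hGY.2.1.1
  have := hKc.1
  have hKT : TorSh.IsTorsionFree (kernel ρ) := fun x => by
    have := hGU.2.2.1 x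
    exact ((Modules.StalkModule.mono_iff_stalkMapₗ_injective (kernel.ι ρ)).mp inferInstance
      x).moduleIsTorsionFree _ fun c v => map_smul _ c v
  have : Epi k₀ := by
    rw [Modules.StalkModule.epi_iff_stalkMapₗ_surjective]
    intro x u
    obtain ⟨v, hv⟩ := (Modules.StalkModule.epi_iff_stalkMapₗ_surjective πU).mp inferInstance x
      (Modules.StalkModule.stalkMapₗ (kernel.ι ρ) x u)
    have hv0 : Modules.StalkModule.stalkMapₗ πY x v = 0 := by
      rw [← hρ, hcomp, hv, ← hcomp, kernel.condition, Modules.StalkModule.stalkMapₗ_zero]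
      rfl
    obtain ⟨t, ht⟩ := ((ShortComplex.ab_exact_iff_function_exact _).mp
      ((Modules.Stalk.exact_iff_stalk _).mp (ShortComplex.exact_of_f_is_kernel
        (ShortComplex.mk κ πY (kernel.condition πY)) (kernelIsKernel πY)) x) v).mp hv0
    refine ⟨t, (Modules.StalkModule.mono_iff_stalkMapₗ_injective (kernel.ι ρ)).mp inferInstance x ?_⟩
    rw [← hcomp, hk₀, hcomp, ← hv]
    exact congrArg _ ht
  have hK'0 : ∀ η ∈ genericPoints X, η ∈ Y ∨ η ∉ Z → Subsingleton ((kernel ρ).presheaf.stalk η) := by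
    intro η hη h
    refine subsingleton_of_forall_eq 0 fun u => ?_
    refine (Modules.StalkModule.mono_iff_stalkMapₗ_injective (kernel.ι ρ)).mp inferInstance η ?_
    rw [map_zero]
    by_cases hηY : η ∈ Y
    · refine (Generic.bijective_factor hI hGU hGY hρ hη ((hU η hη).mpr (Or.inl hηY)) hηY).1 ?_
      rw [map_zero, ← hcomp, kernel.condition, Modules.StalkModule.stalkMapₗ_zero]
      rfl
    · exact @Subsingleton.elim _ (Generic.subsingleton_stalk hGU fun h' =>
        ((hU η hη).mp h').elim hηY (h.resolve_left hηY)) _ _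
  -- `g : GZ1 ⟶ K'`
  obtain ⟨g, hg⟩ := Generic.exists_factor hMs hGZ1 hKT (p ≫ k₀) fun η hη h =>
    hz _ (hK'0 η hη (Or.inr h))
  have hag : a ≫ g = 0 := by
    rw [← cancel_epi πW, ← Category.assoc, ha, Category.assoc, Category.assoc, hg,
      ← Category.assoc j, w, zero_comp, comp_zero, comp_zero]
  let δ : cokernel a ⟶ kernel ρ := cokernel.desc a g hag
  have hcδ : cokernel.π a ≫ δ = g := cokernel.π_desc _ _ _
  have : Epi g := epi_of_epi_fac hg
  have : Epi δ := epi_of_epi_fac hcδ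
  have hQc : Coh.IsCoh (cokernel a) := CohBasics.Closure.isCoh_cokernel a hGW.2.1.1 hGZ1.2.1
  have := hQc.1
  have hCc : Coh.IsCoh (kernel δ) := CohBasics.Closure.isCoh_kernel δ hQc hKc.1
  have hC0 : ∀ η ∈ genericPoints X, Subsingleton ((kernel δ).presheaf.stalk η) := by
    intro η hη
    refine subsingleton_of_forall_eq 0 fun c => ?_
    refine (Modules.StalkModule.mono_iff_stalkMapₗ_injective (kernel.ι δ)).mp inferInstance η ?_
    rw [map_zero]
    obtain ⟨v, hv⟩ := (Modules.StalkModule.epi_iff_stalkMapₗ_surjective (cokernel.π a)).mp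
      inferInstance η (Modules.StalkModule.stalkMapₗ (kernel.ι δ) η c)
    rw [← hv]
    by_cases hηZ : η ∈ Z
    · by_cases hηY : η ∈ Y
      · obtain ⟨u, rfl⟩ := (hab η hη ((hW η hη).mpr ⟨hηY, hηZ⟩)).2 v
        rw [← hcomp, cokernel.condition, Modules.StalkModule.stalkMapₗ_zero]
        rfl
      · have hgv : Modules.StalkModule.stalkMapₗ g η v = 0 := by
          rw [← hcδ, hcomp, hv, ← hcomp, kernel.condition, Modules.StalkModule.stalkMapₗ_zero]
          rfl
        obtain ⟨m, rfl⟩ := (Generic.bijective_stalk hMs hGZ1 hη hηZ).2 v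
        rw [← hcomp, hg, hcomp] at hgv
        have h2 := congrArg (Modules.StalkModule.stalkMapₗ (kernel.ι ρ) η) hgv
        rw [map_zero, ← hcomp, hk₀, hcomp] at h2
        have h3 : Modules.StalkModule.stalkMapₗ κ η (Modules.StalkModule.stalkMapₗ p η m) = 0 :=
          (Generic.bijective_stalk hI hGU hη ((hU η hη).mpr (Or.inr hηZ))).1 (h2.trans (map_zero _).symm)
        obtain ⟨u, rfl⟩ := hjex η m ((Modules.StalkModule.mono_iff_stalkMapₗ_injective κ).mp
          inferInstance η (h3.trans (map_zero _).symm))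
        rw [show u = 0 from @Subsingleton.elim _ (Generic.subsingleton_stalk hGY hηY) u 0]
        simp only [map_zero]
    · rw [@Subsingleton.elim _ (Generic.subsingleton_stalk hGZ1 hηZ) v 0, map_zero]
  have hKKc : Coh.IsCoh (kernel πY) := CohBasics.Closure.isCoh_kernel πY hI.1 hGY.2.1.1
  have e1 : Curv2.euler k X GZ1 = Curv2.euler k X GW + Curv2.euler k X (cokernel a) :=
    ParBun.Proper.euler_add (S := ShortComplex.mk a (cokernel.π a) (cokernel.condition a))
      { exact := ShortComplex.exact_of_g_is_cokernel _ (cokernelIsCokernel a) }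
      hGW.2.1 hGZ1.2.1 hQc
  have e2 : Curv2.euler k X (cokernel a) = Curv2.euler k X (kernel δ) + Curv2.euler k X (kernel ρ) :=
    ParBun.Proper.euler_add (S := ShortComplex.mk (kernel.ι δ) δ (kernel.condition δ))
      { exact := ShortComplex.exact_of_f_is_kernel _ (kernelIsKernel δ) } hCc hQc hKc
  have e3 : Curv2.euler k X GU = Curv2.euler k X (kernel ρ) + Curv2.euler k X GY :=
    ParBun.Proper.euler_add (S := ShortComplex.mk (kernel.ι ρ) ρ (kernel.condition ρ))
      { exact := ShortComplex.exact_of_f_is_kernel _ (kernelIsKernel ρ) } hKc hGU.2.1 hGY.2.1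
  refine ⟨Curv2.euler k X (kernel δ), Euler.euler_nonneg (Euler.dim_le hpure) hC0, by omega,
    fun hor => euler_isZero ?_ hCc⟩
  suffices hm : Mono δ by
    rw [IsZero.iff_id_eq_zero]
    exact (cancel_mono (kernel.ι δ)).mp (by
      rw [Category.id_comp, zero_comp]
      exact (cancel_mono δ).mp (by rw [kernel.condition, zero_comp]))
  rcases hor with hWe | hUe
  · -- `W = ∅`: `coker a = GZ1` is torsion-free
    subst hWe
    have ha0 : a = 0 := (isZero_empty hGW).eq_of_src _ _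
    let r : cokernel a ⟶ GZ1 := cokernel.desc a (𝟙 GZ1) (by rw [ha0, zero_comp])
    have hr : cokernel.π a ≫ r = 𝟙 _ := cokernel.π_desc _ _ _
    have hr' : r ≫ cokernel.π a = 𝟙 _ := by
      rw [← cancel_epi (cokernel.π a), ← Category.assoc, hr, Category.id_comp, Category.comp_id]
    have : Mono r := mono_of_mono_fac hr'
    have hQT : TorSh.IsTorsionFree (cokernel a) := fun x => by
      have := hGZ1.2.2.1 x
      exact ((Modules.StalkModule.mono_iff_stalkMapₗ_injective r).mp inferInstance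
        x).moduleIsTorsionFree _ fun c v => map_smul _ c v
    have h0 : kernel.ι δ = 0 :=
      Generic.eq_zero_of_generic hQT _ fun η hη => LinearMap.ext fun c => by
        rw [@Subsingleton.elim _ (hC0 η hη) c 0, map_zero, map_zero]
    exact Preadditive.mono_of_kernel_zero h0
  · -- `U = X`: `coker a` is a quotient of `ker πY`
    subst hUe
    have := isIso_univ hI hGU
    have : Mono k₀ := mono_of_mono_fac hk₀
    let q₀ : kernel πY ⟶ cokernel a := hex.exact.desc (π1 ≫ cokernel.π a) (by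
      show j ≫ π1 ≫ cokernel.π a = 0
      rw [← cancel_epi πY, comp_zero, ← Category.assoc j, ← Category.assoc, ← ha, Category.assoc,
        cokernel.condition, comp_zero])
    have hq₀ : p ≫ q₀ = π1 ≫ cokernel.π a := hex.exact.g_desc _ _
    have : Epi q₀ := by
      have : Epi (p ≫ q₀) := by rw [hq₀]; exact epi_comp _ _
      exact epi_of_epi p q₀
    have hq₀δ : q₀ ≫ δ = k₀ := by
      rw [← cancel_epi p, ← Category.assoc, hq₀, Category.assoc, hcδ, hg]
    have : Mono q₀ := mono_of_mono_fac hq₀δ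
    have : IsIso q₀ := isIso_of_mono_of_epi q₀
    have : δ = inv q₀ ≫ k₀ := by rw [← hq₀δ, IsIso.inv_hom_id_assoc]
    rw [this]
    infer_instance

end Calc

/-- `r χ + deg`: the β-number cleared of its denominator. -/
theorem rBeta_eq {T : Set X} (hT : IsClosed T) {E : X.Modules} {r : ℕ}
    (hE : FlatMod.IsFinLocFreeOfRank r E) (G : X.Modules) :
    TFOne.rBeta X k (X ↘ Spec (CommRingCat.of k)) T hT E r G =
      (r : ℤ) * Curv2.euler k X G + EDeg.D k E r (EDeg.OT hT) :=
  congrArg ((r : ℤ) * Curv2.euler k X G + ·) (EDeg.D_OT (k := k) hT hE).symm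

theorem D_congr {E : X.Modules} {r : ℕ} {G H : X.Modules} (e : G ≅ H) :
    EDeg.D k E r G = EDeg.D k E r H := by
  rw [EDeg.D, EDeg.D, Curves.Euler.euler_eq_of_iso (TensorMod.Basic.tensorIso (Iso.refl E) e),
    Curves.Euler.euler_eq_of_iso e]

/-- The β-number of the whole curve. -/
theorem rBeta_univ {I : X.Modules} (hI : TFOne.IsTF1 X I) {E : X.Modules} {r : ℕ}
    (hE : FlatMod.IsFinLocFreeOfRank r E) {G : X.Modules} {π : I ⟶ G}
    (hG : TFOne.IsQuotOn X I Set.univ G π) :
    TFOne.rBeta X k (X ↘ Spec (CommRingCat.of k)) Set.univ isClosed_univ E r G =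
      (r : ℤ) * Curv2.euler k X I + Curv2.deg k X E r := by
  have := LocallyOfFiniteType.isLocallyNoetherian (X ↘ Spec (CommRingCat.of k))
  have := isIso_univ hI hG
  have := isIso_univ (EDeg.isTF1_structure (X := X))
    (EDeg.isQuotOn_OT (X := X) isClosed_univ isUnion_univ)
  rw [rBeta_eq _ hE, Curves.Euler.euler_eq_of_iso (asIso π),
    ← D_congr (asIso (EDeg.toOT (X := X) isClosed_univ)), EDeg.D, Curv2.deg,
    Curves.Euler.euler_eq_of_iso (TensorMod.Basic.rightUnit E)]

/-- The β-number of the empty set vanishes. -/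
theorem rBeta_empty {I : X.Modules} {E : X.Modules} {r : ℕ}
    (hE : FlatMod.IsFinLocFreeOfRank r E) {T : Set X} (hT : IsClosed T) (h0 : T = ∅) {G : X.Modules}
    {π : I ⟶ G} (hG : TFOne.IsQuotOn X I T G π) :
    TFOne.rBeta X k (X ↘ Spec (CommRingCat.of k)) T hT E r G = 0 := by
  have := LocallyOfFiniteType.isLocallyNoetherian (X ↘ Spec (CommRingCat.of k))
  have := Curves.GlobalSections.noetherianSpace_of_proper k X
  subst h0
  have hO := EDeg.isQuotOn_OT (X := X) hT isUnion_empty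
  have h := isZero_empty hO
  have hsub : ∀ η ∈ genericPoints X, Subsingleton ((EDeg.OT hT).presheaf.stalk η) := fun η _ =>
    Push.subsingleton_push hT _ (Set.notMem_empty η)
  have e := EDeg.D_add (k := k) hE
    (S := ShortComplex.mk (biprod.inl : EDeg.OT hT ⟶ EDeg.OT hT ⊞ EDeg.OT hT) biprod.snd biprod.inl_snd)
    (ShortComplex.Splitting.ofHasBinaryBiproduct _ _).shortExact hO.2.1
    (CohBasics.Closure.isCoh_biprod hO.2.1 hO.2.1) hO.2.1
  have hb : IsZero (EDeg.OT hT ⊞ EDeg.OT hT) := by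
    rw [IsZero.iff_id_eq_zero]
    apply biprod.hom_ext <;> exact h.eq_of_tgt _ _
  rw [D_congr (hb.iso h)] at e
  rw [rBeta_eq _ hE, euler_isZero (isZero_empty hG) hG.2.1]
  dsimp only at e
  omega

section Beta

variable (hpure : ∀ C ∈ irreducibleComponents (X : Type u), topologicalKrullDim C = 1)
  {I : X.Modules} (hI : TFOne.IsTF1 X I) {Y : Set X} (hY : IsClosed Y)
  (hYs : VecSt.IsSubcurve X Y) {GY : X.Modules}
  {πY : I ⟶ GY} (hGY : TFOne.IsQuotOn X I Y GY πY) {Ms : X.Modules} (hMs : TFOne.IsTF1 X Ms)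
  {j : GY ⟶ Ms} {p : Ms ⟶ kernel πY} {w : j ≫ p = 0} (hex : (ShortComplex.mk j p w).ShortExact)
  {E : X.Modules} {r : ℕ} (hE : FlatMod.IsFinLocFreeOfRank r E)

include hpure hI hY hYs hGY hMs hex hE

/-- The basic inequality with its defect. -/
theorem beta_defect {Z W : Set X} (hZ : IsClosed Z) (hZs : VecSt.IsSubcurve X Z)
    (hW : W = ⋃₀ {C | C ∈ irreducibleComponents (X : Type u) ∧ C ⊆ Y ∩ Z}) (hWc : IsClosed W)
    {GZ1 GW GU : X.Modules} {π1 : Ms ⟶ GZ1} {πW : I ⟶ GW} {πU : I ⟶ GU}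
    (hGZ1 : TFOne.IsQuotOn X Ms Z GZ1 π1) (hGW : TFOne.IsQuotOn X I W GW πW)
    (hGU : TFOne.IsQuotOn X I (Y ∪ Z) GU πU) :
    ∃ e : ℤ, 0 ≤ e ∧
      Curv2.euler k X GZ1 + Curv2.euler k X GY = Curv2.euler k X GW + Curv2.euler k X GU + e ∧
      TFOne.rBeta X k (X ↘ Spec (CommRingCat.of k)) W hWc E r GW +
          TFOne.rBeta X k (X ↘ Spec (CommRingCat.of k)) (Y ∪ Z) (hY.union hZ) E r GU + (r : ℤ) * e =
        TFOne.rBeta X k (X ↘ Spec (CommRingCat.of k)) Z hZ E r GZ1 +
          TFOne.rBeta X k (X ↘ Spec (CommRingCat.of k)) Y hY E r GY := by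
  obtain ⟨e, he0, he, -⟩ := exists_defect (k := k) hpure hI hY hGY hMs hex hZ (W := W) (U := Y ∪ Z)
    (fun η hη => by rw [hW]; exact mem_meet_iff hY hZ hη) (fun η _ => Iff.rfl) hGZ1 hGW hGU
  refine ⟨e, he0, he, ?_⟩
  have hd := EDeg.deg_union (k := k) hpure hE hY hZ (Push.isUnion_of_isSubcurve hYs)
    (Push.isUnion_of_isSubcurve hZs) hW hWc
  rw [rBeta_eq _ hE, rBeta_eq _ hE, rBeta_eq _ hE, rBeta_eq _ hE]
  linear_combination (-(r : ℤ)) * he + hd

/-- `β^Y(Z) + β(Y) ≥ β(W) + β(U)`, with the quotients of `I` supplied. -/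
theorem exists_beta_le {Z : Set X} (hZ : IsClosed Z) (hZs : VecSt.IsSubcurve X Z) {GZ1 : X.Modules}
    {π1 : Ms ⟶ GZ1} (hGZ1 : TFOne.IsQuotOn X Ms Z GZ1 π1) :
    ∃ (W : Set X) (hWc : IsClosed W) (GW GU : X.Modules) (πW : I ⟶ GW) (πU : I ⟶ GU),
      W = ⋃₀ {C | C ∈ irreducibleComponents (X : Type u) ∧ C ⊆ Y ∩ Z} ∧
      TFOne.IsQuotOn X I W GW πW ∧ TFOne.IsQuotOn X I (Y ∪ Z) GU πU ∧
      TFOne.rBeta X k (X ↘ Spec (CommRingCat.of k)) W hWc E r GW +
          TFOne.rBeta X k (X ↘ Spec (CommRingCat.of k)) (Y ∪ Z) (hY.union hZ) E r GU ≤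
        TFOne.rBeta X k (X ↘ Spec (CommRingCat.of k)) Z hZ E r GZ1 +
          TFOne.rBeta X k (X ↘ Spec (CommRingCat.of k)) Y hY E r GY := by
  have := Curves.GlobalSections.isNoetherian_of_proper k X
  obtain ⟨W, hW⟩ : ∃ W : Set X,
      W = ⋃₀ {C | C ∈ irreducibleComponents (X : Type u) ∧ C ⊆ Y ∩ Z} := ⟨_, rfl⟩
  have hWu : Push.IsUnion W := hW ▸ Push.isUnion_setOf _
  obtain ⟨GW, πW, hGW⟩ := Quot.exists_quot hI hWu
  obtain ⟨GU, πU, hGU⟩ := Quot.exists_quot hI
    (Push.isUnion_union (Push.isUnion_of_isSubcurve hYs) (Push.isUnion_of_isSubcurve hZs))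
  obtain ⟨e, he0, -, he⟩ := beta_defect (k := k) hpure hI hY hYs hGY hMs hex hE hZ hZs hW hWu.isClosed hGZ1
    hGW hGU
  refine ⟨W, hWu.isClosed, GW, GU, πW, πU, hW, hGW, hGU, ?_⟩
  have : 0 ≤ (r : ℤ) * e := mul_nonneg (Int.natCast_nonneg r) he0
  linarith

end Beta

end Groth.Agent.Lib.TFOne.ModBeta
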