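import Groth.Agent.Lib.TFOne.Field

/-!
# Simple torsion-free rank-one sheaves are the indecomposable ones
-/

set_option autoImplicit false
universe u

open CategoryTheory Limits AlgebraicGeometry Opposite TopologicalSpace

namespace Groth.Agent.Lib.TFOne.Decomp

open Groth.Agent.Lib

section Support

variable {X : Scheme.{u}} [IsReduced X] [IsLocallyNoetherian X]

/-- The support of a torsion-free module is controlled by its generic stalks. -/
theorem support_subset {G : X.Modules} [G.IsQuasicoherent] (hT : TorSh.IsTorsionFree G) {T : Set X}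
    (hTc : IsClosed T)
    (h : ∀ η ∈ genericPoints X, η ∉ T → Subsingleton (G.presheaf.stalk η)) :
    CohB1.support G ⊆ T := by
  intro x hx
  by_contra hxT
  refine hx (subsingleton_of_forall_eq 0 fun v => ?_)
  obtain ⟨V, hV, t, rfl⟩ := TopCat.Presheaf.exists_germ_eq G.presheaf v
  let U : X.Opens := V ⊓ ⟨Tᶜ, hTc.isOpen_compl⟩
  rw [← TopCat.Presheaf.germ_res_apply G.presheaf (homOfLE (inf_le_left : U ≤ V)) x ⟨hV, hxT⟩ t]
  exact Generic.germ_eq_zero hT _ _ fun η hη hηU => @Subsingleton.elim _ (h η hη hηU.2) _ _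

theorem subset_support {G : X.Modules} (hG : Coh.IsCoh G) {T : Set X}
    (hT : ∀ x ∈ T, ∃ η ∈ T, η ⤳ x ∧ ¬ Subsingleton (G.presheaf.stalk η)) :
    T ⊆ CohB1.support G := by
  intro x hx
  obtain ⟨η, -, hsp, hne⟩ := hT x hx
  have := hG.2
  exact hsp.mem_closed (Modules.Support.isClosed_support G) hne

end Support

variable {k : Type u} [Field k] {X : Scheme.{u}} [X.Over (Spec (CommRingCat.of k))]

/-- A product of translates of an endomorphism, by its effect on generic stalks. -/
theorem exists_interp {M : X.Modules} (φ : M ⟶ M) (c : genericPoints X → k) (c₀ : k)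
    (hc : ∀ (η : genericPoints X) v,
      Modules.StalkModule.stalkMapₗ φ η.1 v = Simple.base η.1 (c η) • v) (S : Finset k) :
    ∃ e : M ⟶ M, ∀ (η : genericPoints X) v,
      Modules.StalkModule.stalkMapₗ e η.1 v =
        Simple.base η.1 (∏ b ∈ S, (c η - b) / (c₀ - b)) • v := by
  classical
  induction S using Finset.induction_on with
  | empty =>
    refine ⟨𝟙 M, fun η v => ?_⟩
    rw [Finset.prod_empty, map_one, one_smul, Modules.StalkModule.stalkMapₗ_id, LinearMap.id_apply]
  | @insert b S hb ih =>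
    obtain ⟨e, he⟩ := ih
    refine ⟨e ≫ (φ + Formal.smulMod k M (-b)) ≫ Formal.smulMod k M (c₀ - b)⁻¹, fun η v => ?_⟩
    rw [Modules.StalkModule.stalkMapₗ_comp, Modules.StalkModule.stalkMapₗ_comp,
      Modules.StalkModule.stalkMapₗ_add, LinearMap.comp_apply, LinearMap.comp_apply,
      LinearMap.add_apply, Simple.stalkMap_smulMod, Simple.stalkMap_smulMod, hc, ← add_smul,
      ← map_add, he, smul_smul, smul_smul, ← map_mul, ← map_mul, Finset.prod_insert hb]
    congr 2
    rw [div_eq_mul_inv]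
    ring

theorem isSimple_iff [IsProper (X ↘ Spec (CommRingCat.of k))] [IsReduced X]
    (hgi : ∀ (C : Set X) (hC : C ∈ irreducibleComponents (X : Type u)), GeometricallyIntegral
      (VecSt.subschι X C (isClosed_of_mem_irreducibleComponents C hC) ≫
        (X ↘ Spec (CommRingCat.of k))))
    [Nonempty X] {I : X.Modules} (hI : TFOne.IsTF1 X I) :
    TFOne.IsSimple X k (X ↘ Spec (CommRingCat.of k)) I ↔
      ¬ ∃ (Y Z : Set X) (_ : IsClosed Y) (_ : IsClosed Z) (GY GZ : X.Modules) (πY : I ⟶ GY)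
        (πZ : I ⟶ GZ), VecSt.IsSubcurve X Y ∧ VecSt.IsSubcurve X Z ∧ Y ≠ Set.univ ∧ Z ≠ Set.univ ∧
          TFOne.IsQuotOn X I Y GY πY ∧ TFOne.IsQuotOn X I Z GZ πZ ∧ IsIso (biprod.lift πY πZ) := by
  have := Curves.GlobalSections.isNoetherian_of_proper k X
  have hbase : ∀ {η : X} (_ : η ∈ genericPoints X) {b b' : k},
      (∀ v : I.presheaf.stalk η, Simple.base η b • v = Simple.base η b' • v) → b = b' := by
    intro η hη b b' h
    obtain ⟨e⟩ := hI.2.2 η hη
    have := congrArg e (h (e.symm 1))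
    simp only [map_smul, LinearEquiv.apply_symm_apply, smul_eq_mul, mul_one] at this
    exact RingHom.injective (Simple.base η) this
  constructor
  · rintro hs ⟨Y, Z, hY, -, GY, GZ, πY, πZ, hYs, -, hYne, -, hGY, -, hiso⟩
    obtain ⟨b, hb⟩ := hs.2 (πY ≫ biprod.inl ≫ inv (biprod.lift πY πZ))
    obtain ⟨η₁, hη₁, hη₁Y⟩ : ∃ η ∈ genericPoints X, η ∉ Y := by
      by_contra hc
      push Not at hc
      refine hYne (Set.eq_univ_of_univ_subset ?_)
      rw [← genericPoints.closure]
      exact closure_minimal hc hY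
    have hbst : ∀ η v, Modules.StalkModule.stalkMapₗ (πY ≫ biprod.inl ≫ inv (biprod.lift πY πZ)) η v =
        Simple.base η b • v := fun η v => by
      rw [hb]; exact Simple.stalkMap_smulMod I b η v
    have hb0 : b = 0 := hbase hη₁ fun v => by
      rw [← hbst, map_zero, zero_smul, Modules.StalkModule.stalkMapₗ_comp,
        LinearMap.comp_apply,
        @Subsingleton.elim _ (Generic.subsingleton_stalk hGY hη₁Y)
          (Modules.StalkModule.stalkMapₗ πY η₁ v) 0, map_zero]
    obtain ⟨𝒮, h𝒮, ⟨C, hC⟩, rfl⟩ := hYs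
    obtain ⟨η, hη, hηC⟩ := Flat55.GenericPoints.exists_closure_eq (h𝒮 hC)
    have hmem : η ∈ closure ({η} : Set X) := subset_closure rfl
    rw [hηC] at hmem
    obtain ⟨e⟩ := hI.2.2 η hη
    have h1 : Modules.StalkModule.stalkMapₗ (πY ≫ biprod.inl ≫ inv (biprod.lift πY πZ)) η
        (e.symm 1) = 0 := by
      rw [hbst, hb0, map_zero, zero_smul]
    have h2 : πY = (πY ≫ biprod.inl ≫ inv (biprod.lift πY πZ)) ≫ biprod.lift πY πZ ≫ biprod.fst := by
      rw [Category.assoc, Category.assoc, IsIso.inv_hom_id_assoc, biprod.inl_fst, Category.comp_id]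
    have h3 : Modules.StalkModule.stalkMapₗ πY η (e.symm 1) = 0 := by
      rw [h2, Modules.StalkModule.stalkMapₗ_comp, LinearMap.comp_apply, h1, map_zero]
    exact one_ne_zero (e.symm.injective
      (((Generic.bijective_stalk hI hGY hη ⟨C, hC, hmem⟩).1 (h3.trans (map_zero _).symm)).trans
        (map_zero e.symm).symm))
  intro hdec
  refine ⟨fun h0 => ?_, fun φ => ?_⟩
  · obtain ⟨η, hη, -⟩ := Flat55.GenericPoints.exists_specializes (Classical.arbitrary X)
    obtain ⟨e⟩ := hI.2.2 η hη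
    have := Modules.Stalk.isZero_iff_stalk_subsingleton.mp h0 η
    exact one_ne_zero (e.symm.injective (Subsingleton.elim (e.symm 1) (e.symm 0)))
  have hex : ∀ η : genericPoints X, ∃ c : k, ∀ v,
      Modules.StalkModule.stalkMapₗ φ η.1 v = Simple.base η.1 c • v :=
    fun η => Field.exists_scalar hI φ η.2 (hgi _ η.2)
  choose c hc using hex
  obtain ⟨η₀, hη₀, -⟩ := Flat55.GenericPoints.exists_specializes (Classical.arbitrary X)
  let c₀ := c ⟨η₀, hη₀⟩
  have := hI.1.1
  by_cases hall : ∀ η, c η = c₀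
  · exact ⟨c₀, Simple.eq_of_generic hI.2.1 _ _ fun η hη => LinearMap.ext fun v => by
      rw [Simple.stalkMap_smulMod, ← hall ⟨η, hη⟩]
      exact hc ⟨η, hη⟩ v⟩
  refine absurd ?_ hdec
  push Not at hall
  obtain ⟨η₁, hη₁⟩ := hall
  classical
  have hfin : (genericPoints X).Finite :=
    genericPoints.finite NoetherianSpace.finite_irreducibleComponents
  have := hfin.to_subtype
  have := Fintype.ofFinite (genericPoints X)
  obtain ⟨e, he⟩ := exists_interp φ c c₀ hc ((Finset.univ.image c).erase c₀)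
  have he1 : ∀ η : genericPoints X, c η = c₀ → ∀ v, Modules.StalkModule.stalkMapₗ e η.1 v = v := by
    intro η h v
    rw [he, h, Finset.prod_eq_one fun b hb => div_self (sub_ne_zero.mpr
      (Ne.symm (Finset.ne_of_mem_erase hb))), map_one, one_smul]
  have he0 : ∀ η : genericPoints X, c η ≠ c₀ → ∀ v, Modules.StalkModule.stalkMapₗ e η.1 v = 0 := by
    intro η h v
    rw [he, Finset.prod_eq_zero (i := c η) (Finset.mem_erase.mpr ⟨h, Finset.mem_image.mpr
      ⟨η, Finset.mem_univ _, rfl⟩⟩) (by simp), map_zero, zero_smul]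
  have hee : e ≫ e = e := Simple.eq_of_generic hI.2.1 _ _ fun η hη => LinearMap.ext fun v => by
    rw [Modules.StalkModule.stalkMapₗ_comp, LinearMap.comp_apply]
    by_cases h : c ⟨η, hη⟩ = c₀
    · rw [he1 ⟨η, hη⟩ h, he1 ⟨η, hη⟩ h]
    · rw [he0 ⟨η, hη⟩ h v, map_zero]
  let GY := kernel (𝟙 I - e)
  let GZ := kernel e
  let ιY : GY ⟶ I := kernel.ι _
  let ιZ : GZ ⟶ I := kernel.ι _
  let πY : I ⟶ GY := kernel.lift _ e (by rw [Preadditive.comp_sub, Category.comp_id, hee, sub_self])
  let πZ : I ⟶ GZ := kernel.lift _ (𝟙 I - e)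
    (by rw [Preadditive.sub_comp, Category.id_comp, hee, sub_self])
  have hιYe : ιY ≫ e = ιY := by
    have := kernel.condition (𝟙 I - e)
    rw [Preadditive.comp_sub, Category.comp_id, sub_eq_zero] at this
    exact this.symm
  have hιYπY : ιY ≫ πY = 𝟙 _ := (cancel_mono ιY).mp (by
    rw [Category.assoc, kernel.lift_ι, hιYe, Category.id_comp])
  have hιZe : ιZ ≫ e = 0 := kernel.condition e
  have hιZπZ : ιZ ≫ πZ = 𝟙 _ := (cancel_mono ιZ).mp (by
    rw [Category.assoc, kernel.lift_ι, Preadditive.comp_sub, hιZe, Category.comp_id, sub_zero,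
      Category.id_comp])
  have hιYπZ : ιY ≫ πZ = 0 := (cancel_mono ιZ).mp (by
    rw [Category.assoc, kernel.lift_ι, Preadditive.comp_sub, hιYe, Category.comp_id, sub_self,
      zero_comp])
  have hιZπY : ιZ ≫ πY = 0 := (cancel_mono ιY).mp (by
    rw [Category.assoc, kernel.lift_ι, hιZe, zero_comp])
  have hsum : πY ≫ ιY + πZ ≫ ιZ = 𝟙 I := by
    rw [kernel.lift_ι, kernel.lift_ι, add_sub_cancel]
  have hiso : IsIso (biprod.lift πY πZ) :=
    ⟨biprod.desc ιY ιZ, by rw [biprod.lift_desc, hsum], by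
      apply biprod.hom_ext' <;> apply biprod.hom_ext <;>
        simp [hιYπY, hιYπZ, hιZπY, hιZπZ]⟩
  let P : genericPoints X → Prop := fun η => c η = c₀
  have key : ∀ (Q : genericPoints X → Prop) (G : X.Modules) (ι : G ⟶ I) (π : I ⟶ G),
      ι ≫ π = 𝟙 G → Coh.IsCoh G →
      (∀ η, Q η → ∀ v, Modules.StalkModule.stalkMapₗ (π ≫ ι) η.1 v = v) →
      (∀ η, ¬ Q η → ∀ v, Modules.StalkModule.stalkMapₗ (π ≫ ι) η.1 v = 0) →
      (∃ η, Q η) → (∃ η, ¬ Q η) →
      ∃ (T : Set X) (_ : IsClosed T), VecSt.IsSubcurve X T ∧ T ≠ Set.univ ∧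
        TFOne.IsQuotOn X I T G π := by
    intro Q G ι π hsplit hG h1 h0 hQ hnQ
    have : Mono ι := mono_of_mono_fac hsplit
    have : Epi π := epi_of_epi_fac hsplit
    let T : Set X := ⋃ η ∈ {η : genericPoints X | Q η}, closure {η.1}
    have hTc : IsClosed T := (Set.toFinite _).isClosed_biUnion fun _ _ => isClosed_closure
    have hmem : ∀ η : genericPoints X, η.1 ∈ T → Q η := fun η h => by
      simp only [T, Set.mem_iUnion, exists_prop] at h
      obtain ⟨ζ, hζ, hηζ⟩ := h
      have : ζ = η := Subtype.ext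
        (Flat55.GenericPoints.eq_of_specializes η.2 (specializes_iff_mem_closure.2 hηζ))
      exact this ▸ hζ
    have hTF : TorSh.IsTorsionFree G := fun x => by
      have := hI.2.1 x
      exact ((Modules.StalkModule.mono_iff_stalkMapₗ_injective ι).mp inferInstance
        x).moduleIsTorsionFree _ fun a v => map_smul _ a v
    have hzero : ∀ η : genericPoints X, ¬ Q η → Subsingleton (G.presheaf.stalk η.1) := fun η hη =>
      subsingleton_of_forall_eq 0 fun w => by
        obtain ⟨v, rfl⟩ := (Modules.StalkModule.epi_iff_stalkMapₗ_surjective π).mp inferInstance η.1 w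
        refine (Modules.StalkModule.mono_iff_stalkMapₗ_injective ι).mp inferInstance η.1 ?_
        rw [map_zero, ← LinearMap.comp_apply, ← Modules.StalkModule.stalkMapₗ_comp, h0 η hη]
    have hne : ∀ η : genericPoints X, Q η → ¬ Subsingleton (G.presheaf.stalk η.1) := fun η hη hss => by
      obtain ⟨e'⟩ := hI.2.2 η.1 η.2
      have := h1 η hη (e'.symm 1)
      rw [Modules.StalkModule.stalkMapₗ_comp, LinearMap.comp_apply,
        Subsingleton.elim (Modules.StalkModule.stalkMapₗ π η.1 (e'.symm 1)) 0, map_zero] at this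
      exact one_ne_zero (e'.symm.injective (this.symm.trans (map_zero e'.symm).symm))
    have := hG.1
    refine ⟨T, hTc, ⟨(fun η : genericPoints X => closure {η.1}) '' {η | Q η}, ?_, ?_, ?_⟩, ?_,
      inferInstance, hG, hTF, subset_antisymm ?_ ?_⟩
    · rintro _ ⟨η, -, rfl⟩
      exact η.2
    · exact hQ.imp' (fun η => closure {η.1}) fun η hη => ⟨η, hη, rfl⟩
    · rw [Set.sUnion_image]
    · obtain ⟨η, hη⟩ := hnQ
      exact fun h => hη (hmem η (h ▸ trivial))
    · refine support_subset hTF hTc fun η hη hηT => hzero ⟨η, hη⟩ fun hQ' => hηT ?_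
      exact Set.mem_biUnion (x := (⟨η, hη⟩ : genericPoints X)) hQ' (subset_closure (Set.mem_singleton η))
    · refine subset_support hG fun x hx => ?_
      simp only [T, Set.mem_iUnion, exists_prop] at hx
      obtain ⟨η, hη, hxη⟩ := hx
      exact ⟨η.1, Set.mem_biUnion (x := η) hη (subset_closure rfl),
        specializes_iff_mem_closure.2 hxη, hne η hη⟩
  have hK : ∀ (f : I ⟶ I), Coh.IsCoh (kernel f) := fun f =>
    CohBasics.Closure.isCoh_kernel f hI.1 hI.1.1
  obtain ⟨Y, hYc, hYs, hYne, hGY⟩ := key P GY ιY πY hιYπY (hK _)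
    (fun η h v => by rw [kernel.lift_ι]; exact he1 η h v)
    (fun η h v => by rw [kernel.lift_ι]; exact he0 η h v) ⟨⟨η₀, hη₀⟩, rfl⟩ ⟨η₁, hη₁⟩
  have hst : ∀ η v, Modules.StalkModule.stalkMapₗ (𝟙 I - e) η v =
      v - Modules.StalkModule.stalkMapₗ e η v := fun η v => by
    have := LinearMap.congr_fun (Modules.StalkModule.stalkMapₗ_add (𝟙 I - e) e η) v
    rw [sub_add_cancel, Modules.StalkModule.stalkMapₗ_id, LinearMap.id_apply,
      LinearMap.add_apply] at this
    exact eq_sub_of_add_eq this.symm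
  obtain ⟨Z, hZc, hZs, hZne, hGZ⟩ := key (fun η => ¬ P η) GZ ιZ πZ hιZπZ (hK _)
    (fun η h v => by rw [kernel.lift_ι, hst, he0 η h, sub_zero])
    (fun η h v => by rw [kernel.lift_ι, hst, he1 η (not_not.mp h), sub_self])
    ⟨η₁, hη₁⟩ ⟨⟨η₀, hη₀⟩, not_not.mpr rfl⟩
  exact ⟨Y, Z, hYc, hZc, GY, GZ, πY, πZ, hYs, hZs, hYne, hZne, hGY, hGZ, hiso⟩

end Groth.Agent.Lib.TFOne.Decomp
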