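import Groth.Agent.Lib.TFOne.Push

/-!
# Simplicity of extensions of simple sheaves on complementary subcurves
-/

set_option autoImplicit false
universe u

open CategoryTheory Limits AlgebraicGeometry Opposite TopologicalSpace

namespace Groth.Agent.Lib.TFOne.Ext

open Groth.Agent.Lib

variable {k : Type u} [Field k] {X : Scheme.{u}} [X.Over (Spec (CommRingCat.of k))]

theorem isSimple_iff [IsProper (X ↘ Spec (CommRingCat.of k))] [IsReduced X] {Y Z : Set X}
    (hY : IsClosed Y) (hZ : IsClosed Z) (hYs : VecSt.IsSubcurve X Y) (hZs : VecSt.IsSubcurve X Z)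
    (hcov : Y ∪ Z = Set.univ) {M : X.Modules} (hM : TFOne.IsTF1 X M)
    {I : (VecSt.subsch X Y hY).Modules} (hI : TFOne.IsTF1 (VecSt.subsch X Y hY) I)
    (hIs : TFOne.IsSimple (VecSt.subsch X Y hY) k
      (VecSt.subschι X Y hY ≫ (X ↘ Spec (CommRingCat.of k))) I)
    {J : (VecSt.subsch X Z hZ).Modules} (hJ : TFOne.IsTF1 (VecSt.subsch X Z hZ) J)
    (hJs : TFOne.IsSimple (VecSt.subsch X Z hZ) k
      (VecSt.subschι X Z hZ ≫ (X ↘ Spec (CommRingCat.of k))) J)
    (a : (Coh.push (VecSt.subschι X Y hY)).obj I ⟶ M)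
    (b : M ⟶ (Coh.push (VecSt.subschι X Z hZ)).obj J) (w : a ≫ b = 0)
    (hex : (ShortComplex.mk a b w).ShortExact) :
    TFOne.IsSimple X k (X ↘ Spec (CommRingCat.of k)) M ↔ ¬ IsSplitEpi b := by
  have := Curves.GlobalSections.isNoetherian_of_proper k X
  have := hM.1.1
  have := hJ.1.1
  have : Mono a := hex.mono_f
  have : Epi b := hex.epi_g
  have hcomp : ∀ {A B C : X.Modules} (f : A ⟶ B) (g : B ⟶ C) (x : X) (v : A.presheaf.stalk x),
      Modules.StalkModule.stalkMapₗ (f ≫ g) x v =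
        Modules.StalkModule.stalkMapₗ g x (Modules.StalkModule.stalkMapₗ f x v) :=
    fun f g x v => by rw [Modules.StalkModule.stalkMapₗ_comp]; rfl
  have ha : ∀ η ∈ genericPoints X, η ∈ Y → η ∉ Z ∧
      Function.Surjective (Modules.StalkModule.stalkMapₗ a η) := by
    intro η hη hηY
    obtain ⟨e⟩ := hM.2.2 η hη
    have hF : IsField (X.presheaf.stalk η) :=
      ModelFibre.MaxPoint.isField_stalk fun y hy => Flat55.GenericPoints.eq_of_specializes hη hy
    have hinj := (Modules.StalkModule.mono_iff_stalkMapₗ_injective a).mp inferInstance η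
    have hI1 := Push.not_subsingleton_push hY hI.2.2 hη hηY
    obtain ⟨v₀, hv₀⟩ : ∃ v : ((Coh.push (VecSt.subschι X Y hY)).obj I).presheaf.stalk η, v ≠ 0 := by
      by_contra hc
      push Not at hc
      exact hI1 (subsingleton_of_forall_eq 0 hc)
    have hav : e (Modules.StalkModule.stalkMapₗ a η v₀) ≠ 0 := fun h =>
      hv₀ (hinj ((e.injective (h.trans (map_zero e).symm)).trans (map_zero _).symm))
    obtain ⟨d, hd⟩ := hF.mul_inv_cancel hav
    have hsur : Function.Surjective (Modules.StalkModule.stalkMapₗ a η) := fun m =>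
      ⟨(e m * d) • v₀, e.injective (by
        rw [map_smul, map_smul, smul_eq_mul, mul_assoc, mul_comm d, hd, mul_one])⟩
    refine ⟨fun hηZ => Push.not_subsingleton_push hZ hJ.2.2 hη hηZ
      (subsingleton_of_forall_eq 0 fun q => ?_), hsur⟩
    obtain ⟨m, rfl⟩ := (Modules.StalkModule.epi_iff_stalkMapₗ_surjective b).mp inferInstance η q
    obtain ⟨v, rfl⟩ := hsur m
    rw [← hcomp, w, Modules.StalkModule.stalkMapₗ_zero]
    rfl
  have hbinj : ∀ η ∈ genericPoints X, η ∈ Z →
      Function.Injective (Modules.StalkModule.stalkMapₗ b η) := by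
    intro η hη hηZ
    refine (injective_iff_map_eq_zero _).mpr fun m hm => ?_
    have hx := (Modules.Stalk.shortExact_iff_stalk _).mp hex η
    obtain ⟨v, rfl⟩ := ((ShortComplex.ab_exact_iff_function_exact _).mp hx.exact m).mp hm
    have hv : v = 0 := @Subsingleton.elim _
      (Push.subsingleton_push hY I (fun h => (ha η hη h).1 hηZ)) _ _
    rw [hv]
    exact map_zero _
  have hbY : ∀ η ∈ genericPoints X, η ∈ Y → ∀ m, Modules.StalkModule.stalkMapₗ b η m = 0 :=
    fun η hη h m => @Subsingleton.elim _ (Push.subsingleton_push hZ J (ha η hη h).1) _ _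
  have hgen : ∀ {T : Set X}, VecSt.IsSubcurve X T → ∃ η ∈ genericPoints X, η ∈ T := by
    rintro T ⟨𝒮, h𝒮, ⟨C, hC⟩, rfl⟩
    obtain ⟨η, hη, hηC⟩ := Flat55.GenericPoints.exists_closure_eq (h𝒮 hC)
    exact ⟨η, hη, C, hC, hηC.le (subset_closure (Set.mem_singleton η))⟩
  obtain ⟨ηY, hηY, hηYY⟩ := hgen hYs
  obtain ⟨ηZ, hηZ, hηZZ⟩ := hgen hZs
  constructor
  · intro hs hsplit
    obtain ⟨⟨s, hsb⟩⟩ := hsplit.exists_splitEpi
    obtain ⟨c, hc⟩ := hs.2 (b ≫ s)
    have hst : ∀ x v, Modules.StalkModule.stalkMapₗ (b ≫ s) x v = Simple.base x c • v := fun x v => by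
      rw [hc]; exact Simple.stalkMap_smulMod M c x v
    obtain ⟨e⟩ := hM.2.2 ηY hηY
    have hc0 : c = 0 := by
      have h := hst ηY (e.symm 1)
      rw [hcomp, hbY ηY hηY hηYY, map_zero] at h
      have h' := congrArg e h
      rw [map_zero, map_smul, e.apply_symm_apply, smul_eq_mul, mul_one] at h'
      exact RingHom.injective (Simple.base ηY) (h'.symm.trans (map_zero _).symm)
    obtain ⟨e'⟩ := hM.2.2 ηZ hηZ
    have h := hst ηZ (e'.symm 1)
    rw [hc0, map_zero, zero_smul] at h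
    have h2 : Modules.StalkModule.stalkMapₗ b ηZ (e'.symm 1) = 0 := by
      have := congrArg (Modules.StalkModule.stalkMapₗ b ηZ) h
      rwa [map_zero, ← hcomp, Category.assoc, hsb, Category.comp_id] at this
    exact one_ne_zero (e'.symm.injective
      ((hbinj ηZ hηZ hηZZ (h2.trans (map_zero _).symm)).trans (map_zero e'.symm).symm))
  intro hns
  refine ⟨fun h0 => ?_, fun φ => ?_⟩
  · obtain ⟨e⟩ := hM.2.2 ηY hηY
    have := Modules.Stalk.isZero_iff_stalk_subsingleton.mp h0 ηY
    exact one_ne_zero (e.symm.injective (Subsingleton.elim (e.symm 1) (e.symm 0)))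
  have hφ : a ≫ φ ≫ b = 0 := Push.eq_zero_push hZ (Push.isUnion_of_isSubcurve hZs) hJ.2.1 _ fun η hη => LinearMap.ext fun v => by
    rw [hcomp, hcomp]
    by_cases h : η ∈ Y
    · rw [hbY η hη h]
      rfl
    · rw [@Subsingleton.elim _ (Push.subsingleton_push hY I h) v 0, map_zero, map_zero, map_zero,
        map_zero]
  obtain ⟨cI, hcI⟩ := Push.exists_scalar_push hY hIs
    (hex.exact.lift (a ≫ φ) (by rw [Category.assoc]; exact hφ))
  obtain ⟨cJ, hcJ⟩ := Push.exists_scalar_push hZ hJs (hex.exact.desc (φ ≫ b) hφ)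
  have hI' : ∀ η ∈ genericPoints X, η ∈ Y → ∀ m,
      Modules.StalkModule.stalkMapₗ φ η m = Simple.base η cI • m := by
    intro η hη h m
    obtain ⟨v, rfl⟩ := (ha η hη h).2 m
    rw [← hcomp, ← hex.exact.lift_f (a ≫ φ) (by rw [Category.assoc]; exact hφ), hcomp, hcI, map_smul]
  have hJ' : ∀ η ∈ genericPoints X, η ∈ Z → ∀ m,
      Modules.StalkModule.stalkMapₗ φ η m = Simple.base η cJ • m := by
    intro η hη h m
    refine hbinj η hη h ?_
    rw [← hcomp, ← hex.exact.g_desc (φ ≫ b) hφ, hcomp, hcJ, map_smul]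
  by_cases hc : cI = cJ
  · refine ⟨cI, Simple.eq_of_generic hM.2.1 _ _ fun η hη => LinearMap.ext fun v => ?_⟩
    rw [Simple.stalkMap_smulMod]
    rcases hcov.ge (Set.mem_univ η) with h | h
    · exact hI' η hη h v
    · rw [hc]; exact hJ' η hη h v
  refine absurd ?_ hns
  let e : M ⟶ M := (φ + Formal.smulMod k M (-cI)) ≫ Formal.smulMod k M (cJ - cI)⁻¹
  have he : ∀ η m (c : k), Modules.StalkModule.stalkMapₗ φ η m = Simple.base η c • m →
      Modules.StalkModule.stalkMapₗ e η m = Simple.base η ((cJ - cI)⁻¹ * (c - cI)) • m := by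
    intro η m c h
    rw [hcomp, Modules.StalkModule.stalkMapₗ_add, LinearMap.add_apply, Simple.stalkMap_smulMod,
      Simple.stalkMap_smulMod, h, ← add_smul, ← map_add, smul_smul, ← map_mul, ← sub_eq_add_neg]
  have he0 : ∀ η ∈ genericPoints X, η ∈ Y → ∀ m, Modules.StalkModule.stalkMapₗ e η m = 0 :=
    fun η hη h m => by
      rw [he η m cI (hI' η hη h m), sub_self, mul_zero, map_zero, zero_smul]
  have he1 : ∀ η ∈ genericPoints X, η ∈ Z → ∀ m, Modules.StalkModule.stalkMapₗ e η m = m :=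
    fun η hη h m => by
      rw [he η m cJ (hJ' η hη h m), inv_mul_cancel₀ (sub_ne_zero.mpr (Ne.symm hc)), map_one, one_smul]
  have hae : a ≫ e = 0 := Generic.eq_zero_of_generic hM.2.1 _ fun η hη => LinearMap.ext fun v => by
    rw [hcomp]
    by_cases h : η ∈ Y
    · exact he0 η hη h _
    · rw [@Subsingleton.elim _ (Push.subsingleton_push hY I h) v 0, map_zero, map_zero, map_zero]
  refine IsSplitEpi.mk' ⟨hex.exact.desc e hae, ?_⟩
  have h1 : b ≫ hex.exact.desc e hae ≫ b = e ≫ b := by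
    rw [← Category.assoc]; exact congrArg (· ≫ b) (hex.exact.g_desc e hae)
  refine (cancel_epi b).mp (h1.trans ?_)
  rw [Category.comp_id, ← sub_eq_zero]
  refine Push.eq_zero_push hZ (Push.isUnion_of_isSubcurve hZs) hJ.2.1 _ fun η hη => LinearMap.ext fun m => ?_
  have hsub : Modules.StalkModule.stalkMapₗ (e ≫ b - b) η m +
      Modules.StalkModule.stalkMapₗ b η m = Modules.StalkModule.stalkMapₗ (e ≫ b) η m := by
    rw [← LinearMap.add_apply, ← Modules.StalkModule.stalkMapₗ_add, sub_add_cancel]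
  refine add_right_cancel (b := Modules.StalkModule.stalkMapₗ b η m) (hsub.trans ?_)
  rw [hcomp, LinearMap.zero_apply, zero_add]
  by_cases h : η ∈ Z
  · rw [he1 η hη h]
  · exact @Subsingleton.elim _ (Push.subsingleton_push hZ J h) _ _

end Groth.Agent.Lib.TFOne.Ext
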