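import Groth.Agent.Lib.TFOne.ModBeta

/-!
# Consequences of the β-calculus of elementary modifications
-/

set_option autoImplicit false
universe u

open CategoryTheory Limits AlgebraicGeometry Opposite TopologicalSpace

namespace Groth.Agent.Lib.TFOne.ModApps

open Groth.Agent.Lib

variable {k : Type u} [Field k] {X : Scheme.{u}} [X.Over (Spec (CommRingCat.of k))]
  [IsProper (X ↘ Spec (CommRingCat.of k))] [IsReduced X]
  {I : X.Modules} (hI : TFOne.IsTF1 X I) {E : X.Modules} {r : ℕ}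
  (hE : FlatMod.IsFinLocFreeOfRank r E)
  {d : ℤ} (hχ : Curv2.euler k X I = d) (hEd : Curv2.deg k X E r = -(r : ℤ) * d)

include hI hE hχ hEd

/-- The whole curve has β zero. -/
theorem beta_univ {T : Set X} (hT : IsClosed T) (h : T = Set.univ) {G : X.Modules} {π : I ⟶ G}
    (hG : TFOne.IsQuotOn X I T G π) :
    TFOne.rBeta X k (X ↘ Spec (CommRingCat.of k)) T hT E r G = 0 := by
  subst h
  rw [ModBeta.rBeta_univ hI hE hG, hχ, hEd]
  ring

/-- A semistable sheaf has non-negative β on every union of components. -/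
theorem beta_nonneg (hss : TFOne.IsSemistable X k (X ↘ Spec (CommRingCat.of k)) I E r) {T : Set X}
    (hT : IsClosed T) (hTu : Push.IsUnion T) {G : X.Modules} {π : I ⟶ G}
    (hG : TFOne.IsQuotOn X I T G π) :
    0 ≤ TFOne.rBeta X k (X ↘ Spec (CommRingCat.of k)) T hT E r G := by
  by_cases hne : T.Nonempty
  · by_cases hu : T = Set.univ
    · exact (beta_univ hI hE hχ hEd hT hu hG).ge
    · exact hss.2 T hT (ModBeta.isSubcurve_of_nonempty hTu hne) hu G π hG
  · exact (ModBeta.rBeta_empty hE hT (Set.not_nonempty_iff_eq_empty.mp hne) hG).ge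

section Mod

variable (hpure : ∀ C ∈ irreducibleComponents (X : Type u), topologicalKrullDim C = 1)
  {Y : Set X} (hY : IsClosed Y) (hYs : VecSt.IsSubcurve X Y) {GY : X.Modules}
  {πY : I ⟶ GY} (hGY : TFOne.IsQuotOn X I Y GY πY) {Ms : X.Modules} (hMs : TFOne.IsTF1 X Ms)
  {j : GY ⟶ Ms} {p : Ms ⟶ kernel πY} {w : j ≫ p = 0} (hex : (ShortComplex.mk j p w).ShortExact)

include hpure hY hYs hGY hMs hex

/-- When `Y` is the largest subcurve of least β, the modification does not decrease it. -/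
theorem le_modification_of_maxMin
    (hmin : ∀ (T : Set X) (hT : IsClosed T), VecSt.IsSubcurve X T → ∀ (G : X.Modules) (π : I ⟶ G),
      TFOne.IsQuotOn X I T G π → TFOne.rBeta X k (X ↘ Spec (CommRingCat.of k)) Y hY E r GY ≤
        TFOne.rBeta X k (X ↘ Spec (CommRingCat.of k)) T hT E r G)
    (hmax : ∀ (T : Set X) (hT : IsClosed T), VecSt.IsSubcurve X T → ∀ (G : X.Modules) (π : I ⟶ G),
      TFOne.IsQuotOn X I T G π → TFOne.rBeta X k (X ↘ Spec (CommRingCat.of k)) T hT E r G =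
        TFOne.rBeta X k (X ↘ Spec (CommRingCat.of k)) Y hY E r GY → T ⊆ Y)
    {Z : Set X} (hZ : IsClosed Z) (hZs : VecSt.IsSubcurve X Z) {GZ1 : X.Modules}
    {π1 : Ms ⟶ GZ1} (hGZ1 : TFOne.IsQuotOn X Ms Z GZ1 π1) :
    TFOne.rBeta X k (X ↘ Spec (CommRingCat.of k)) Y hY E r GY ≤
        TFOne.rBeta X k (X ↘ Spec (CommRingCat.of k)) Z hZ E r GZ1 ∧
      (TFOne.rBeta X k (X ↘ Spec (CommRingCat.of k)) Z hZ E r GZ1 =
        TFOne.rBeta X k (X ↘ Spec (CommRingCat.of k)) Y hY E r GY → Z ⊆ Y) := by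
  have := Curves.GlobalSections.isNoetherian_of_proper k X
  obtain ⟨W, hWc, GW, GU, πW, πU, hW, hGW, hGU, hle⟩ :=
    ModBeta.exists_beta_le (k := k) hpure hI hY hYs hGY hMs hex hE hZ hZs hGZ1
  have hUs : VecSt.IsSubcurve X (Y ∪ Z) := by
    obtain ⟨𝒮, h1, h2, h3⟩ := hYs
    obtain ⟨𝒯, g1, -, g3⟩ := hZs
    exact ⟨𝒮 ∪ 𝒯, Set.union_subset h1 g1, h2.inl, by rw [Set.sUnion_union, ← h3, ← g3]⟩
  have hbU := hmin _ (hY.union hZ) hUs GU πU hGU
  obtain ⟨Gu, πu, hGu⟩ := Quot.exists_quot hI (ModBeta.isUnion_univ (X := X))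
  have hus : VecSt.IsSubcurve X (Set.univ : Set X) := by
    refine ModBeta.isSubcurve_of_nonempty ModBeta.isUnion_univ ?_
    obtain ⟨𝒮, h𝒮, ⟨C, hC⟩, -⟩ := hYs
    exact ⟨(h𝒮 hC).1.nonempty.some, trivial⟩
  have hbW : TFOne.rBeta X k (X ↘ Spec (CommRingCat.of k)) Y hY E r GY ≤
      TFOne.rBeta X k (X ↘ Spec (CommRingCat.of k)) W hWc E r GW := by
    by_cases hne : W.Nonempty
    · exact hmin W hWc (ModBeta.isSubcurve_of_nonempty (hW ▸ Push.isUnion_setOf _) hne) GW πW hGW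
    · rw [ModBeta.rBeta_empty hE hWc (Set.not_nonempty_iff_eq_empty.mp hne) hGW]
      exact (hmin _ isClosed_univ hus Gu πu hGu).trans
        (beta_univ hI hE hχ hEd isClosed_univ rfl hGu).le
  refine ⟨by linarith, fun h => ?_⟩
  exact Set.subset_union_right.trans (hmax _ (hY.union hZ) hUs GU πU hGU (le_antisymm (by linarith) hbU))

/-- When `I` is semistable, the modification is semistable iff `β(Y) = 0`. -/
theorem isSemistable_iff (hss : TFOne.IsSemistable X k (X ↘ Spec (CommRingCat.of k)) I E r) :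
    TFOne.IsSemistable X k (X ↘ Spec (CommRingCat.of k)) Ms E r ↔
      TFOne.rBeta X k (X ↘ Spec (CommRingCat.of k)) Y hY E r GY = 0 := by
  have := Curves.GlobalSections.isNoetherian_of_proper k X
  constructor
  · intro hM
    by_cases hYu : Y = Set.univ
    · exact beta_univ hI hE hχ hEd hY hYu hGY
    obtain ⟨Y', hY'⟩ : ∃ Y' : Set X,
      Y' = ⋃₀ {C | C ∈ irreducibleComponents (X : Type u) ∧ ¬ C ⊆ Y} := ⟨_, rfl⟩
    have hY'u : Push.IsUnion Y' := hY' ▸ Push.isUnion_setOf _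
    have hmem : ∀ η ∈ genericPoints X, (η ∈ Y' ↔ η ∉ Y) := fun η hη => by
      rw [hY']; exact ModBeta.mem_compl_iff hY hη
    have hne : Y'.Nonempty := by
      by_contra hc
      refine hYu (Set.eq_univ_of_univ_subset
        (ModBeta.union_subset_of_generic ModBeta.isUnion_univ hY fun η hη _ => ?_))
      by_contra h
      exact hc ⟨η, (hmem η hη).mpr h⟩
    obtain ⟨ηY, hηY, hηYY⟩ : ∃ η ∈ genericPoints X, η ∈ Y := by
      obtain ⟨𝒮, h𝒮, ⟨C, hC⟩, rfl⟩ := hYs
      obtain ⟨η, hη, hηC⟩ := Flat55.GenericPoints.exists_closure_eq (h𝒮 hC)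
      exact ⟨η, hη, C, hC, hηC.le (subset_closure (Set.mem_singleton η))⟩
    have hY's : VecSt.IsSubcurve X Y' := ModBeta.isSubcurve_of_nonempty hY'u hne
    obtain ⟨G2, π2, hG2⟩ := Quot.exists_quot hMs hY'u
    have h2 := hM.2 Y' hY'u.isClosed hY's
      (fun h => (hmem ηY hηY).mp (h ▸ trivial) hηYY) G2 π2 hG2
    obtain ⟨W, hW⟩ : ∃ W : Set X,
      W = ⋃₀ {C | C ∈ irreducibleComponents (X : Type u) ∧ C ⊆ Y ∩ Y'} := ⟨_, rfl⟩
    have hWu : Push.IsUnion W := hW ▸ Push.isUnion_setOf _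
    have hWm : ∀ η ∈ genericPoints X, (η ∈ W ↔ η ∈ Y ∧ η ∈ Y') := fun η hη => by
      rw [hW]; exact ModBeta.mem_meet_iff hY hY'u.isClosed hη
    have hWe : W = ∅ := ModBeta.union_ext hWu ModBeta.isUnion_empty fun η hη => by
      simp only [Set.mem_empty_iff_false, iff_false, hWm η hη]
      exact fun h => (hmem η hη).mp h.2 h.1
    have hUu : Y ∪ Y' = Set.univ :=
      ModBeta.union_ext (Push.isUnion_union (Push.isUnion_of_isSubcurve hYs) hY'u) ModBeta.isUnion_univ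
        fun η hη => by
          simp only [Set.mem_union, hmem η hη, Set.mem_univ, iff_true]
          exact em _
    obtain ⟨GW, πW, hGW⟩ := Quot.exists_quot hI hWu
    obtain ⟨GU, πU, hGU⟩ := Quot.exists_quot hI
      (Push.isUnion_union (Push.isUnion_of_isSubcurve hYs) hY'u)
    obtain ⟨e, -, he, hb⟩ := ModBeta.beta_defect (k := k) hpure hI hY hYs hGY hMs hex hE hY'u.isClosed
      hY's hW hWu.isClosed hG2 hGW hGU
    obtain ⟨e', -, he', hzero⟩ := ModBeta.exists_defect (k := k) hpure hI hY hGY hMs hex hY'u.isClosed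
      hWm (U := Y ∪ Y') (fun η _ => Iff.rfl) hG2 hGW hGU
    have he0 : e = 0 := by have := hzero (Or.inl hWe); omega
    rw [he0, mul_zero, add_zero, ModBeta.rBeta_empty hE hWu.isClosed hWe hGW,
      beta_univ hI hE hχ hEd (hY.union hY'u.isClosed) hUu hGU] at hb
    have h1 := beta_nonneg hI hE hχ hEd hss hY (Push.isUnion_of_isSubcurve hYs) hGY
    linarith
  · intro h0
    refine ⟨hMs, fun Z hZ hZs _ GZ1 π1 hGZ1 => ?_⟩
    obtain ⟨W, hWc, GW, GU, πW, πU, hW, hGW, hGU, hle⟩ :=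
      ModBeta.exists_beta_le (k := k) hpure hI hY hYs hGY hMs hex hE hZ hZs hGZ1
    have h1 := beta_nonneg hI hE hχ hEd hss hWc (hW ▸ Push.isUnion_setOf _) hGW
    have h2 := beta_nonneg hI hE hχ hEd hss (hY.union hZ)
      (Push.isUnion_union (Push.isUnion_of_isSubcurve hYs) (Push.isUnion_of_isSubcurve hZs)) hGU
    linarith

/-- The smallest zero subcurve through a component can only grow. -/
theorem subset_of_minZero (hss : TFOne.IsSemistable X k (X ↘ Spec (CommRingCat.of k)) I E r)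
    {W₀ : Set X} (hW₀ : W₀ ∈ irreducibleComponents (X : Type u)) (hW₀Y : W₀ ⊆ Y)
    (hY0 : TFOne.rBeta X k (X ↘ Spec (CommRingCat.of k)) Y hY E r GY = 0)
    (hYmin : ∀ (T : Set X) (hT : IsClosed T), VecSt.IsSubcurve X T → W₀ ⊆ T →
      ∀ (G : X.Modules) (π : I ⟶ G), TFOne.IsQuotOn X I T G π →
        TFOne.rBeta X k (X ↘ Spec (CommRingCat.of k)) T hT E r G = 0 → Y ⊆ T)
    {Z : Set X} (hZ : IsClosed Z) (hZs : VecSt.IsSubcurve X Z) (hW₀Z : W₀ ⊆ Z) {GZ1 : X.Modules}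
    {π1 : Ms ⟶ GZ1} (hGZ1 : TFOne.IsQuotOn X Ms Z GZ1 π1)
    (hZ0 : TFOne.rBeta X k (X ↘ Spec (CommRingCat.of k)) Z hZ E r GZ1 = 0) : Y ⊆ Z := by
  obtain ⟨W, hWc, GW, GU, πW, πU, hW, hGW, hGU, hle⟩ :=
    ModBeta.exists_beta_le (k := k) hpure hI hY hYs hGY hMs hex hE hZ hZs hGZ1
  have hWu : Push.IsUnion W := hW ▸ Push.isUnion_setOf _
  have h1 := beta_nonneg hI hE hχ hEd hss hWc hWu hGW
  have h2 := beta_nonneg hI hE hχ hEd hss (hY.union hZ)
    (Push.isUnion_union (Push.isUnion_of_isSubcurve hYs) (Push.isUnion_of_isSubcurve hZs)) hGU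
  have hW₀W : W₀ ⊆ W := by
    rw [hW]
    exact fun x hx => ⟨W₀, ⟨hW₀, Set.subset_inter hW₀Y hW₀Z⟩, hx⟩
  have hWZ : W ⊆ Z := by
    rw [hW]
    exact Set.sUnion_subset fun C hC => hC.2.trans Set.inter_subset_right
  refine (hYmin W hWc (ModBeta.isSubcurve_of_nonempty hWu (hW₀.1.nonempty.mono hW₀W)) hW₀W GW πW hGW
    ?_).trans hWZ
  linarith

omit hI hE hχ hEd in
/-- `χ` of the quotient on the complementary subcurve. -/
theorem euler_compl (hI : TFOne.IsTF1 X I) {Y' : Set X}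
    (hY' : Y' = ⋃₀ {C | C ∈ irreducibleComponents (X : Type u) ∧ ¬ C ⊆ Y}) (hY'c : IsClosed Y')
    {G2 : X.Modules} {π2 : Ms ⟶ G2} (hG2 : TFOne.IsQuotOn X Ms Y' G2 π2) :
    Curv2.euler k X G2 + Curv2.euler k X GY = Curv2.euler k X I := by
  have := Curves.GlobalSections.isNoetherian_of_proper k X
  obtain ⟨GW, πW, hGW⟩ := Quot.exists_quot hI (ModBeta.isUnion_empty (X := X))
  obtain ⟨GU, πU, hGU⟩ := Quot.exists_quot hI (ModBeta.isUnion_univ (X := X))
  have hmem : ∀ η ∈ genericPoints X, (η ∈ Y' ↔ η ∉ Y) := fun η hη => by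
    rw [hY']; exact ModBeta.mem_compl_iff hY hη
  obtain ⟨e, -, he, hz⟩ := ModBeta.exists_defect (k := k) hpure hI hY hGY hMs hex hY'c
    (W := ∅) (U := Set.univ)
    (fun η hη => by
      simp only [Set.mem_empty_iff_false, false_iff, not_and, hmem η hη]
      exact fun h => not_not.mpr h)
    (fun η hη => by simp only [Set.mem_univ, true_iff, hmem η hη]; exact em _) hG2 hGW hGU
  have := ModBeta.isIso_univ hI hGU
  rw [hz (Or.inl rfl), ModBeta.euler_isZero (ModBeta.isZero_empty hGW) hGW.2.1, zero_add, add_zero,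
    ← Curves.Euler.euler_eq_of_iso (asIso πU)] at he
  exact he

omit hχ hEd in
/-- `β^Y(Y) = β(Y)` iff the modification decomposes at `Y`. -/
theorem beta_self_eq_iff (hr : 0 < r) {Y' : Set X}
    (hY' : Y' = ⋃₀ {C | C ∈ irreducibleComponents (X : Type u) ∧ ¬ C ⊆ Y}) (hY'c : IsClosed Y')
    {G1 G2 : X.Modules} {π1 : Ms ⟶ G1} {π2 : Ms ⟶ G2} (hG1 : TFOne.IsQuotOn X Ms Y G1 π1)
    (hG2 : TFOne.IsQuotOn X Ms Y' G2 π2) :
    TFOne.rBeta X k (X ↘ Spec (CommRingCat.of k)) Y hY E r G1 =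
      TFOne.rBeta X k (X ↘ Spec (CommRingCat.of k)) Y hY E r GY ↔ IsIso (biprod.lift π1 π2) := by
  have := Curves.GlobalSections.isNoetherian_of_proper k X
  have := hMs.1.1
  have := hI.1.1
  have hmem : ∀ η ∈ genericPoints X, (η ∈ Y' ↔ η ∉ Y) := fun η hη => by
    rw [hY']; exact ModBeta.mem_compl_iff hY hη
  have hK : Coh.IsCoh (kernel πY) := CohBasics.Closure.isCoh_kernel πY hI.1 hGY.2.1.1
  have := hGY.1
  have e1 : Curv2.euler k X I = Curv2.euler k X (kernel πY) + Curv2.euler k X GY :=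
    ParBun.Proper.euler_add (S := ShortComplex.mk (kernel.ι πY) πY (kernel.condition πY))
      { exact := ShortComplex.exact_of_f_is_kernel _ (kernelIsKernel πY) } hK hI.1 hGY.2.1
  have e2 : Curv2.euler k X Ms = Curv2.euler k X GY + Curv2.euler k X (kernel πY) :=
    ParBun.Proper.euler_add (S := ShortComplex.mk j p w) hex hGY.2.1 hMs.1 hK
  have e3 := euler_compl (k := k) hpure hY hYs hGY hMs hex hI hY' hY'c hG2
  let L := biprod.lift π1 π2
  have hcomp : ∀ {A B C : X.Modules} (a : A ⟶ B) (b : B ⟶ C) (x : X) (v : A.presheaf.stalk x),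
      Modules.StalkModule.stalkMapₗ (a ≫ b) x v =
        Modules.StalkModule.stalkMapₗ b x (Modules.StalkModule.stalkMapₗ a x v) :=
    fun a b x v => by rw [Modules.StalkModule.stalkMapₗ_comp]; rfl
  have hLf : L ≫ biprod.fst = π1 := biprod.lift_fst _ _
  have hLs : L ≫ biprod.snd = π2 := biprod.lift_snd _ _
  have : Mono L := Generic.mono_of_generic hMs.2.1 L fun η hη a b hab => by
    by_cases h : η ∈ Y
    · refine (Generic.bijective_stalk hMs hG1 hη h).1 ?_
      rw [← hLf, hcomp, hcomp, hab]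
    · refine (Generic.bijective_stalk hMs hG2 hη ((hmem η hη).mpr h)).1 ?_
      rw [← hLs, hcomp, hcomp, hab]
  have hB := CohBasics.Closure.isCoh_biprod hG1.2.1 hG2.2.1
  have hC : Coh.IsCoh (cokernel L) := CohBasics.Closure.isCoh_cokernel L hMs.1.1 hB
  have hC0 : ∀ η ∈ genericPoints X, Subsingleton ((cokernel L).presheaf.stalk η) := by
    intro η hη
    refine subsingleton_of_forall_eq 0 fun c => ?_
    obtain ⟨v, rfl⟩ := (Modules.StalkModule.epi_iff_stalkMapₗ_surjective (cokernel.π L)).mp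
      inferInstance η c
    suffices ∃ m, Modules.StalkModule.stalkMapₗ L η m = v by
      obtain ⟨m, rfl⟩ := this
      rw [← hcomp, cokernel.condition, Modules.StalkModule.stalkMapₗ_zero]
      rfl
    have key : ∀ m, Modules.StalkModule.stalkMapₗ π1 η m =
        Modules.StalkModule.stalkMapₗ (biprod.fst : G1 ⊞ G2 ⟶ G1) η v →
        Modules.StalkModule.stalkMapₗ π2 η m =
          Modules.StalkModule.stalkMapₗ (biprod.snd : G1 ⊞ G2 ⟶ G2) η v →
        Modules.StalkModule.stalkMapₗ L η m = v := by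
      intro m h1 h2
      have hdec : ∀ u, u = Modules.StalkModule.stalkMapₗ biprod.inl η
            (Modules.StalkModule.stalkMapₗ (biprod.fst : G1 ⊞ G2 ⟶ G1) η u) +
          Modules.StalkModule.stalkMapₗ biprod.inr η
            (Modules.StalkModule.stalkMapₗ (biprod.snd : G1 ⊞ G2 ⟶ G2) η u) := fun u => by
        conv_lhs => rw [← LinearMap.id_apply (R := X.presheaf.stalk η) u,
          ← Modules.StalkModule.stalkMapₗ_id, ← biprod.total, Modules.StalkModule.stalkMapₗ_add]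
        rw [LinearMap.add_apply, hcomp, hcomp]
      rw [hdec (Modules.StalkModule.stalkMapₗ L η m), hdec v, ← hcomp L, ← hcomp L, hLf, hLs, h1, h2]
    by_cases h : η ∈ Y
    · obtain ⟨m, hm⟩ := (Generic.bijective_stalk hMs hG1 hη h).2
        (Modules.StalkModule.stalkMapₗ (biprod.fst : G1 ⊞ G2 ⟶ G1) η v)
      exact ⟨m, key m hm (@Subsingleton.elim _
        (Generic.subsingleton_stalk hG2 fun h' => (hmem η hη).mp h' h) _ _)⟩
    · obtain ⟨m, hm⟩ := (Generic.bijective_stalk hMs hG2 hη ((hmem η hη).mpr h)).2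
        (Modules.StalkModule.stalkMapₗ (biprod.snd : G1 ⊞ G2 ⟶ G2) η v)
      exact ⟨m, key m (@Subsingleton.elim _ (Generic.subsingleton_stalk hG1 h) _ _) hm⟩
  have e4 : Curv2.euler k X (G1 ⊞ G2) = Curv2.euler k X Ms + Curv2.euler k X (cokernel L) :=
    ParBun.Proper.euler_add (S := ShortComplex.mk L (cokernel.π L) (cokernel.condition L))
      { exact := ShortComplex.exact_of_g_is_cokernel _ (cokernelIsCokernel L) } hMs.1 hB hC
  rw [Euler.euler_biprod hG1.2.1 hG2.2.1] at e4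
  rw [ModBeta.rBeta_eq _ hE, ModBeta.rBeta_eq _ hE, add_left_inj,
    mul_right_inj' (by exact_mod_cast hr.ne' : (r : ℤ) ≠ 0)]
  constructor
  · intro h
    have hz := ModBeta.isZero_of_euler (Euler.dim_le hpure) hC hC0 (by omega : Curv2.euler k X (cokernel L) = 0)
    have : Epi L := Preadditive.epi_of_cokernel_zero (hz.eq_of_tgt _ _)
    exact isIso_of_mono_of_epi L
  · intro h
    have h' := Curves.Euler.euler_eq_of_iso (k := k) (@asIso _ _ _ _ (biprod.lift π1 π2) h)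
    rw [Euler.euler_biprod hG1.2.1 hG2.2.1] at h'
    omega

omit hχ hEd in
/-- The basic inequality is an equality iff two defects agree. -/
theorem beta_eq_iff (hr : 0 < r) {Z W Y' V : Set X} (hZ : IsClosed Z) (hZs : VecSt.IsSubcurve X Z)
    (hW : W = ⋃₀ {C | C ∈ irreducibleComponents (X : Type u) ∧ C ⊆ Y ∩ Z}) (hWc : IsClosed W)
    (hY' : Y' = ⋃₀ {C | C ∈ irreducibleComponents (X : Type u) ∧ ¬ C ⊆ Y}) (hY'c : IsClosed Y')
    (hV : V = ⋃₀ {C | C ∈ irreducibleComponents (X : Type u) ∧ C ⊆ Z ∧ ¬ C ⊆ Y}) (hVc : IsClosed V)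
    {GZ1 G2 G3 G4 GW GU : X.Modules} (c : ℤ) {πZ1 : Ms ⟶ GZ1} {π2 : Ms ⟶ G2} {π3 : Ms ⟶ G3}
    {π4 : Ms ⟶ G4} {πW : I ⟶ GW} {πU : I ⟶ GU} (hGZ1 : TFOne.IsQuotOn X Ms Z GZ1 πZ1)
    (hG2 : TFOne.IsQuotOn X Ms Y' G2 π2) (hG3 : TFOne.IsQuotOn X Ms (W ∪ Y') G3 π3)
    (hG4 : TFOne.IsQuotOn X Ms V G4 π4) (hGW : TFOne.IsQuotOn X I W GW πW)
    (hGU : TFOne.IsQuotOn X I (Y ∪ Z) GU πU) :
    TFOne.rBeta X k (X ↘ Spec (CommRingCat.of k)) W hWc E r GW +
        TFOne.rBeta X k (X ↘ Spec (CommRingCat.of k)) (Y ∪ Z) (hY.union hZ) E r GU =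
      TFOne.rBeta X k (X ↘ Spec (CommRingCat.of k)) Z hZ E r GZ1 +
        TFOne.rBeta X k (X ↘ Spec (CommRingCat.of k)) Y hY E r GY ↔
    c + Curv2.euler k X G2 - Curv2.euler k X G3 = c + Curv2.euler k X G4 - Curv2.euler k X GZ1 := by
  have := Curves.GlobalSections.isNoetherian_of_proper k X
  obtain ⟨G0, π0, hG0⟩ := Quot.exists_quot hI (ModBeta.isUnion_empty (X := X))
  obtain ⟨Gu, πu, hGu⟩ := Quot.exists_quot hI (ModBeta.isUnion_univ (X := X))
  have hmW : ∀ η ∈ genericPoints X, (η ∈ W ↔ η ∈ Y ∧ η ∈ Z) := fun η hη => by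
    rw [hW]; exact ModBeta.mem_meet_iff hY hZ hη
  have hmY' : ∀ η ∈ genericPoints X, (η ∈ Y' ↔ η ∉ Y) := fun η hη => by
    rw [hY']; exact ModBeta.mem_compl_iff hY hη
  have hmV : ∀ η ∈ genericPoints X, (η ∈ V ↔ η ∈ Z ∧ η ∉ Y) := fun η hη => by
    rw [hV]
    constructor
    · rintro ⟨C, ⟨hC, hCZ, hCY⟩, hmem⟩
      exact ⟨hCZ hmem, (ModBeta.mem_compl_iff hY hη).mp ⟨C, ⟨hC, hCY⟩, hmem⟩⟩
    · intro h
      exact ⟨closure {η}, ⟨hη, closure_minimal (Set.singleton_subset_iff.mpr h.1) hZ,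
        fun hs => h.2 (hs (subset_closure (Set.mem_singleton η)))⟩, subset_closure (Set.mem_singleton η)⟩
  obtain ⟨e, he0, he, hb⟩ := ModBeta.beta_defect (k := k) hpure hI hY hYs hGY hMs hex hE hZ hZs hW
    hWc hGZ1 hGW hGU
  obtain ⟨e4, -, he4, hz4⟩ := ModBeta.exists_defect (k := k) hpure hI hY hGY hMs hex hVc
    (W := ∅) (U := Y ∪ Z)
    (fun η hη => by
      simp only [Set.mem_empty_iff_false, false_iff, not_and, hmV η hη]
      exact fun h _ => not_not.mpr h)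
    (fun η hη => by simp only [Set.mem_union, hmV η hη]; tauto) hG4 hG0 hGU
  obtain ⟨e3, -, he3, hz3⟩ := ModBeta.exists_defect (k := k) hpure hI hY hGY hMs hex (hWc.union hY'c)
    (W := W) (U := Set.univ)
    (fun η hη => by simp only [Set.mem_union, hmW η hη, hmY' η hη]; tauto)
    (fun η hη => by simp only [Set.mem_univ, Set.mem_union, true_iff, hmY' η hη]; tauto) hG3 hGW hGu
  have he2 := euler_compl (k := k) hpure hY hYs hGY hMs hex hI hY' hY'c hG2
  have := ModBeta.isIso_univ hI hGu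
  rw [hz4 (Or.inl rfl), ModBeta.euler_isZero (ModBeta.isZero_empty hG0) hG0.2.1] at he4
  rw [hz3 (Or.inr rfl), ← Curves.Euler.euler_eq_of_iso (asIso πu)] at he3
  have hr' : (r : ℤ) ≠ 0 := by exact_mod_cast hr.ne'
  constructor
  · intro h
    have he' : e = 0 := by
      have : (r : ℤ) * e = 0 := by linarith
      exact (mul_eq_zero.mp this).resolve_left hr'
    omega
  · intro h
    have he' : e = 0 := by omega
    rw [he', mul_zero, add_zero] at hb
    exact hb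

end Mod

end Groth.Agent.Lib.TFOne.ModApps
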