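import Groth.Agent.Lib.TFOne.Push
import Groth.Agent.Lib.ModelFibre.Stalk
import Groth.Agent.Lib.ModelFibre.RegularExt
import Groth.Agent.Lib.Cyc.Dev.Scheme
import Groth.Agent.Lib.Cyc.FP.Stalk
import Groth.Agent.Lib.Modules.SupportOps
import Groth.Agent.Lib.QCoh.Pushforward
import Mathlib.RingTheory.DiscreteValuationRing.Basic

/-!
# The elementary modification of a flat family at a subcurve of the special fibre

For an `R`-flat coherent `I` on a scheme over a discrete valuation ring, the kernel of
`I → i_* G` (`G` the torsion-free quotient of `I|_s` on a subcurve) restricts on the special fibre to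
an extension of `ker (I|_s → G)` by `G`, which is again torsion-free of rank one.
-/

set_option autoImplicit false
universe u

open CategoryTheory Limits AlgebraicGeometry Opposite TopologicalSpace

namespace Groth.Agent.Lib.TFOne.Modification

open Groth.Agent.Lib
open Groth.Agent.Lib.ModelFibre.Stalk (baseHom ker_stalkMap fromSpecStalk_comp)
open Groth.Agent.Lib.DerivedOX.PullbackStalk (pushStalkMap pushStalkMap_smul pushStalkMap_natural)

section Base

variable {R : Type u} [CommRing R] {X : Scheme.{u}} [X.Over (Spec (CommRingCat.of R))]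

lemma stalkMap_smulMod (M : X.Modules) (c : R) (x : X) (v : M.presheaf.stalk x) :
    Modules.StalkModule.stalkMapₗ (Formal.smulMod R M c) x v =
      baseHom (X ↘ Spec (CommRingCat.of R)) x c • v := by
  obtain ⟨U, hx, t, rfl⟩ := TopCat.Presheaf.exists_germ_eq M.presheaf v
  rw [Modules.StalkModule.stalkMapₗ_germ]
  change M.presheaf.germ U x hx
    (X.presheaf.map (homOfLE (le_top (a := U))).op
      (Coh.toGlobal (X ↘ Spec (CommRingCat.of R)) c) • t) = _
  rw [Modules.StalkModule.germ_smul, TopCat.Presheaf.germ_res_apply]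
  rfl

lemma smulMod_natural {M N : X.Modules} (g : M ⟶ N) (c : R) :
    g ≫ Formal.smulMod R N c = Formal.smulMod R M c ≫ g := by
  refine Modules.StalkModule.hom_ext_stalkMapₗ fun x => LinearMap.ext fun v => ?_
  rw [Modules.StalkModule.stalkMapₗ_comp, Modules.StalkModule.stalkMapₗ_comp, LinearMap.comp_apply,
    LinearMap.comp_apply, stalkMap_smulMod, stalkMap_smulMod, map_smul]

end Base

variable {R : Type u} [CommRing R] [IsDomain R] [IsDiscreteValuationRing R] {X : Scheme.{u}}
  (f : X ⟶ Spec (CommRingCat.of R)) {Xs : Scheme.{u}} {i : Xs ⟶ X}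
  {s : Xs ⟶ Spec (CommRingCat.of (IsLocalRing.ResidueField R))}
  (hsq : IsPullback i s f (Spec.map (CommRingCat.ofHom (IsLocalRing.residue R))))

include hsq in
theorem isClosedImmersion : IsClosedImmersion i := by
  have : IsClosedImmersion (Spec.map (CommRingCat.ofHom (IsLocalRing.residue R))) :=
    IsClosedImmersion.spec_of_surjective _ IsLocalRing.residue_surjective
  exact MorphismProperty.of_isPullback hsq.flip inferInstance

include hsq in
/-- Off the special fibre the uniformizer is a unit. -/
theorem isUnit_of_not_mem {ϖ : R} (hϖ : IsLocalRing.maximalIdeal R = Ideal.span {ϖ}) {x : X}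
    (hx : x ∉ Set.range i) : IsUnit (baseHom f x ϖ) := by
  rw [ModelFibre.RegularExt.isUnit_baseHom_iff, ModelFibre.RegularExt.basicOpen_toGlobal]
  show ϖ ∉ (f x).asIdeal
  intro hmem
  apply hx
  have hr : f x ∈ Set.range (Spec.map (CommRingCat.ofHom (IsLocalRing.residue R))) := by
    change f x ∈ Set.range (PrimeSpectrum.comap (IsLocalRing.residue R))
    rw [range_comap_of_surjective _ _ IsLocalRing.residue_surjective]
    refine (PrimeSpectrum.mem_zeroLocus (f x) _).mpr ?_
    rw [IsLocalRing.ker_residue, hϖ]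
    exact (Ideal.span_singleton_le_iff_mem (I := (f x).asIdeal)).mpr hmem
  obtain ⟨y, hy⟩ := hr
  obtain ⟨z, hz, -⟩ := Scheme.Pullback.exists_preimage_pullback (f := f)
    (g := Spec.map (CommRingCat.ofHom (IsLocalRing.residue R))) x y hy.symm
  exact ⟨hsq.isoPullback.inv z, by rw [← Scheme.Hom.comp_apply, hsq.isoPullback_inv_fst, hz]⟩

include hsq in
/-- The unit `M ⟶ i_* i^* M` kills exactly `ϖ M`. -/
theorem exists_of_unit_eq_zero {ϖ : R} (hϖ : IsLocalRing.maximalIdeal R = Ideal.span {ϖ})
    (M : X.Modules) (x : X) (v : M.presheaf.stalk x)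
    (hv : Modules.StalkModule.stalkMapₗ
      ((Scheme.Modules.pullbackPushforwardAdjunction i).unit.app M) x v = 0) :
    ∃ w, baseHom f x ϖ • w = v := by
  have := isClosedImmersion f hsq
  by_cases hx : x ∈ Set.range i
  · obtain ⟨z, rfl⟩ := hx
    have h := Cyc.Dev.SchemeCase.stalk_kernel_unit_le i M z v hv
    rw [ker_stalkMap _ IsLocalRing.residue_surjective hsq, IsLocalRing.ker_residue, hϖ,
      Ideal.map_span, Set.image_singleton] at h
    rw [Submodule.ideal_span_singleton_smul] at h
    obtain ⟨w, -, hw⟩ := (Submodule.mem_smul_pointwise_iff_exists _ _ _).mp h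
    exact ⟨w, hw⟩
  · obtain ⟨u, hu⟩ := (isUnit_of_not_mem f hsq hϖ hx).exists_right_inv
    exact ⟨u • v, by rw [smul_smul, hu, one_smul]⟩

include hsq in
/-- `ϖ` kills direct images from the special fibre. -/
theorem smul_push_eq_zero {ϖ : R} (hϖ : IsLocalRing.maximalIdeal R = Ideal.span {ϖ})
    (N : Xs.Modules) (x : X) (v : ((Scheme.Modules.pushforward i).obj N).presheaf.stalk x) :
    baseHom f x ϖ • v = 0 := by
  have := isClosedImmersion f hsq
  by_cases hx : x ∈ Set.range i
  · obtain ⟨z, rfl⟩ := hx
    refine (PushClosed.Unit.bijective_pushStalkMap i N z).1 ?_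
    have h : baseHom f (i z) ϖ ∈ RingHom.ker (i.stalkMap z).hom := by
      rw [ker_stalkMap _ IsLocalRing.residue_surjective hsq, IsLocalRing.ker_residue]
      exact Ideal.mem_map_of_mem _ (hϖ ▸ Ideal.mem_span_singleton_self ϖ)
    rw [pushStalkMap_smul, RingHom.mem_ker.mp h, zero_smul, map_zero]
  · exact @Subsingleton.elim _ (PushClosed.Unit.subsingleton_stalk_push i N hx) _ _

/-- Flatness over the base makes `ϖ` injective. -/
theorem smul_injective {M : X.Modules} (hM : FlatMod.IsFlatOver f M) {ϖ : R} (h0 : ϖ ≠ 0) (x : X)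
    (v : M.presheaf.stalk x) (hv : baseHom f x ϖ • v = 0) : v = 0 := by
  letI := FlatMod.moduleStalkOver f M x
  have hfl : Module.Flat ((Spec (CommRingCat.of R)).presheaf.stalk (f x)) (M.presheaf.stalk x) := hM x
  let ϖ' : (Spec (CommRingCat.of R)).presheaf.stalk (f x) :=
    (Spec (CommRingCat.of R)).presheaf.germ ⊤ (f x) trivial
      ((Scheme.ΓSpecIso (CommRingCat.of R)).inv ϖ)
  have h0' : ϖ' ≠ 0 := fun h => h0 <|
    (ConcreteCategory.bijective_of_isIso (Scheme.ΓSpecIso (CommRingCat.of R)).inv).1 <|
      (germ_injective_of_isIntegral (Spec (CommRingCat.of R)) (U := ⊤) (f x) trivial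
        (h.trans (map_zero _).symm)).trans (map_zero _).symm
  have : IsDomain ((Spec (CommRingCat.of R)).presheaf.stalk (f x)) := inferInstance
  have : Module.IsTorsionFree ((Spec (CommRingCat.of R)).presheaf.stalk (f x)) (M.presheaf.stalk x) :=
    inferInstance
  have h : ϖ' • v = 0 := by
    change (f.stalkMap x).hom ϖ' • v = 0
    rw [show (f.stalkMap x).hom ϖ' = baseHom f x ϖ from
      Scheme.Hom.germ_stalkMap_apply f ⊤ x trivial _]
    exact hv
  exact (smul_eq_zero_iff_right h0').mp h

include hsq in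
/-- The modification sequence on the special fibre. -/
theorem exists_seq [LocallyOfFiniteType f] [IsReduced Xs] {I : X.Modules} (hIc : Coh.IsCoh I)
    (hIf : FlatMod.IsFlatOver f I) (hIs : TFOne.IsTF1 Xs ((Scheme.Modules.pullback i).obj I))
    {Y : Set Xs} {GY : Xs.Modules} {πY : (Scheme.Modules.pullback i).obj I ⟶ GY}
    (hGY : TFOne.IsQuotOn Xs ((Scheme.Modules.pullback i).obj I) Y GY πY) {IY : X.Modules}
    (hIY : IY = kernel ((Scheme.Modules.pullbackPushforwardAdjunction i).unit.app I ≫
      (Scheme.Modules.pushforward i).map πY)) :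
    TFOne.IsTF1 Xs ((Scheme.Modules.pullback i).obj IY) ∧
      ∃ (j : GY ⟶ (Scheme.Modules.pullback i).obj IY) (p : (Scheme.Modules.pullback i).obj IY ⟶ kernel πY)
        (w : j ≫ p = 0), (ShortComplex.mk j p w).ShortExact := by
  subst hIY
  letI : X.Over (Spec (CommRingCat.of R)) := ⟨f⟩
  have hci := isClosedImmersion f hsq
  have hXn := LocallyOfFiniteType.isLocallyNoetherian f
  have hXsn : IsLocallyNoetherian Xs := LocallyOfFiniteType.isLocallyNoetherian i
  obtain ⟨ϖ, hirr⟩ := IsDiscreteValuationRing.exists_irreducible R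
  have hϖ := hirr.maximalIdeal_eq
  let adj := Scheme.Modules.pullbackPushforwardAdjunction i
  let pb := Scheme.Modules.pullback i
  let pf := Scheme.Modules.pushforward i
  haveI : pf.IsRightAdjoint := adj.isRightAdjoint
  haveI : pb.IsLeftAdjoint := adj.isLeftAdjoint
  haveI : PreservesFiniteLimits pf :=
    haveI : PreservesLimitsOfSize.{0, 0} pf := inferInstance
    PreservesLimitsOfSize.preservesFiniteLimits _
  haveI : PreservesColimitsOfSize.{0, 0} pb := inferInstance
  haveI : PreservesFiniteColimits pb := PreservesColimitsOfSize.preservesFiniteColimits _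
  haveI : pb.Additive := Functor.additive_of_preserves_binary_products _
  have hsm := fun (M : X.Modules) x v => stalkMap_smulMod (R := R) M ϖ x v
  have hcomp : ∀ {A B C : X.Modules} (a : A ⟶ B) (b : B ⟶ C) (x : X) (v : A.presheaf.stalk x),
      Modules.StalkModule.stalkMapₗ (a ≫ b) x v =
        Modules.StalkModule.stalkMapₗ b x (Modules.StalkModule.stalkMapₗ a x v) :=
    fun a b x v => by rw [Modules.StalkModule.stalkMapₗ_comp]; rfl
  have hcomps : ∀ {A B C : Xs.Modules} (a : A ⟶ B) (b : B ⟶ C) (x : Xs) (v : A.presheaf.stalk x),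
      Modules.StalkModule.stalkMapₗ (a ≫ b) x v =
        Modules.StalkModule.stalkMapₗ b x (Modules.StalkModule.stalkMapₗ a x v) :=
    fun a b x v => by rw [Modules.StalkModule.stalkMapₗ_comp]; rfl
  have hsmu : ∀ M : X.Modules, Formal.smulMod R M ϖ ≫ adj.unit.app M = 0 := fun M =>
    Modules.StalkModule.hom_ext_stalkMapₗ fun x => LinearMap.ext fun v => by
      rw [hcomp, hsm, map_smul, Modules.StalkModule.stalkMapₗ_zero]
      exact smul_push_eq_zero f hsq hϖ (pb.obj M) x _
  have hpbsm : ∀ M : X.Modules, pb.map (Formal.smulMod R M ϖ) = 0 := fun M => by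
    apply (adj.homEquiv _ _).injective
    rw [adj.homEquiv_unit, adj.homEquiv_unit, Functor.map_zero, comp_zero]
    exact (adj.unit.naturality (Formal.smulMod R M ϖ)).symm.trans (hsmu M)
  let q : I ⟶ pf.obj GY := adj.unit.app I ≫ pf.map πY
  let ι : kernel q ⟶ I := kernel.ι q
  let K := kernel πY
  let κ : K ⟶ pb.obj I := kernel.ι πY
  let l : I ⟶ kernel q := kernel.lift q (Formal.smulMod R I ϖ)
    (by rw [← Category.assoc, hsmu, zero_comp])
  have hlι : l ≫ ι = Formal.smulMod R I ϖ := kernel.lift_ι _ _ _
  have hιl : ι ≫ l = Formal.smulMod R (kernel q) ϖ := by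
    rw [← cancel_mono ι, Category.assoc, hlι]
    exact smulMod_natural ι ϖ
  -- `q' : IY ⟶ i_* K`
  have hpush : (ShortComplex.mk (pf.map κ) (pf.map πY)
      (by rw [← Functor.map_comp, kernel.condition, Functor.map_zero])).Exact :=
    (ShortComplex.exact_of_f_is_kernel (ShortComplex.mk κ πY (kernel.condition πY))
      (kernelIsKernel πY)).map pf
  haveI hmono : Mono (pf.map κ) := pf.map_mono κ
  let q' : kernel q ⟶ pf.obj K := hpush.lift (ι ≫ adj.unit.app I)
    (by rw [Category.assoc]; exact kernel.condition q)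
  have hq' : q' ≫ pf.map κ = ι ≫ adj.unit.app I := hpush.lift_f _ _
  have hlq' : l ≫ q' = 0 := by
    rw [← cancel_mono (pf.map κ), Category.assoc, hq', ← Category.assoc, hlι, hsmu, zero_comp]
  have hkerq : ∀ x (v : I.presheaf.stalk x), Modules.StalkModule.stalkMapₗ q x v = 0 →
      ∃ w, Modules.StalkModule.stalkMapₗ ι x w = v := fun x v hv =>
    ((ShortComplex.ab_exact_iff_function_exact _).mp ((Modules.Stalk.exact_iff_stalk _).mp
      (ShortComplex.exact_of_f_is_kernel (ShortComplex.mk ι q (kernel.condition q))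
        (kernelIsKernel q)) x) v).mp hv
  haveI hepi : Epi q' := by
    rw [Modules.StalkModule.epi_iff_stalkMapₗ_surjective]
    intro x a
    haveI := PushClosed.Unit.epi_unit i I
    obtain ⟨v, hv⟩ := (Modules.StalkModule.epi_iff_stalkMapₗ_surjective (adj.unit.app I)).mp
      inferInstance x (Modules.StalkModule.stalkMapₗ (pf.map κ) x a)
    obtain ⟨w, hw⟩ := hkerq x v (by
      rw [hcomp, hv, ← hcomp, ← Functor.map_comp, kernel.condition, Functor.map_zero,
        Modules.StalkModule.stalkMapₗ_zero]
      rfl)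
    exact ⟨w, (Modules.StalkModule.mono_iff_stalkMapₗ_injective (pf.map κ)).mp hmono x (by
      rw [← hcomp, hq', hcomp, hw, hv])⟩
  have hlex : (ShortComplex.mk l q' hlq').Exact := by
    rw [Modules.Stalk.exact_iff_stalk]
    intro x
    rw [ShortComplex.ab_exact_iff]
    intro (w : (kernel q).presheaf.stalk x) (hw : Modules.StalkModule.stalkMapₗ q' x w = 0)
    have h : Modules.StalkModule.stalkMapₗ (adj.unit.app I) x
        (Modules.StalkModule.stalkMapₗ ι x w) = 0 := by
      rw [← hcomp, ← hq', hcomp, hw, map_zero]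
    obtain ⟨u, hu⟩ := exists_of_unit_eq_zero f hsq hϖ I x _ h
    refine ⟨u, (Modules.StalkModule.mono_iff_stalkMapₗ_injective ι).mp inferInstance x ?_⟩
    change Modules.StalkModule.stalkMapₗ ι x (Modules.StalkModule.stalkMapₗ l x u) = _
    rw [← hcomp, hlι, hsm]
    exact hu
  -- on the special fibre
  let L : pb.obj I ⟶ pb.obj (kernel q) := pb.map l
  have hcounit : IsIso (adj.counit.app K) := Cyc.Dev.SchemeCase.isIso_counit i K
  let eK := @asIso _ _ _ _ (adj.counit.app K) hcounit
  let p : pb.obj (kernel q) ⟶ K := pb.map q' ≫ adj.counit.app K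
  haveI : Epi (pb.map q') := pb.map_epi q'
  haveI hpepi : Epi p := @epi_comp _ _ _ _ _ _ inferInstance _ (@IsIso.epi_of_iso _ _ _ _ _ hcounit)
  have hLp : L ≫ p = 0 := by
    rw [← Category.assoc, ← Functor.map_comp, hlq', Functor.map_zero, zero_comp]
  have hLex : (ShortComplex.mk L p hLp).Exact := by
    have h := hlex.map_of_epi_of_preservesCokernel pb hepi inferInstance
    refine (ShortComplex.exact_iff_of_iso ?_).mp h
    exact ShortComplex.isoMk (Iso.refl _) (Iso.refl _) eK
      ((Category.id_comp _).trans (Category.comp_id _).symm) (Category.id_comp _)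
  have hpκ : p ≫ κ = pb.map ι := by
    apply (adj.homEquiv _ _).injective
    rw [adj.homEquiv_unit, adj.homEquiv_unit, Functor.map_comp, Functor.map_comp]
    have h1 := adj.unit.naturality q'
    have h2 := adj.right_triangle_components K
    have h3 := adj.unit.naturality ι
    simp only [Functor.id_obj, Functor.id_map, Functor.comp_map] at h1 h3
    rw [Category.assoc, ← reassoc_of% h1, reassoc_of% h2, hq', ← h3]
  have hκL : κ ≫ L = 0 := by
    rw [← cancel_epi p, ← Category.assoc, hpκ, ← Functor.map_comp, hιl, hpbsm, comp_zero]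
  haveI := hGY.1
  let j : GY ⟶ pb.obj (kernel q) := Abelian.epiDesc πY L hκL
  have hj : πY ≫ j = L := Abelian.comp_epiDesc _ _ _
  have hjp : j ≫ p = 0 := by rw [← cancel_epi πY, ← Category.assoc, hj, hLp, comp_zero]
  have hjex : (ShortComplex.mk j p hjp).Exact := by
    rw [Modules.Stalk.exact_iff_stalk]
    intro z
    rw [ShortComplex.ab_exact_iff]
    intro (w : (pb.obj (kernel q)).presheaf.stalk z) (hw : Modules.StalkModule.stalkMapₗ p z w = 0)
    obtain ⟨v, hv⟩ := ((ShortComplex.ab_exact_iff_function_exact _).mp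
      ((Modules.Stalk.exact_iff_stalk _).mp hLex z) w).mp hw
    refine ⟨Modules.StalkModule.stalkMapₗ πY z v, ?_⟩
    change Modules.StalkModule.stalkMapₗ j z (Modules.StalkModule.stalkMapₗ πY z v) = w
    rw [← hcomps, hj]
    exact hv
  -- coherence
  haveI := hGY.2.1.1
  haveI : (pf.obj GY).IsQuasicoherent := QCoh.Pushforward.isQCoh_pushforward i (M := GY)
  haveI := hIc.1
  have hIY : Coh.IsCoh (kernel q) := CohBasics.Closure.isCoh_kernel q hIc inferInstance
  have hMs : Coh.IsCoh (pb.obj (kernel q)) := Cyc.FP.Stalk.isCoh_pullback i hIY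
  haveI := hIs.1.1
  have hK : Coh.IsCoh K := CohBasics.Closure.isCoh_kernel πY hIs.1 hGY.2.1.1
  have hKT : TorSh.IsTorsionFree K := fun z => by
    have := hIs.2.1 z
    exact ((Modules.StalkModule.mono_iff_stalkMapₗ_injective κ).mp inferInstance
      z).moduleIsTorsionFree _ fun a v => map_smul _ a v
  -- generic points
  have hne : ∀ η ∈ genericPoints Xs, ¬ Subsingleton ((pb.obj (kernel q)).presheaf.stalk η) := by
    intro η hη
    haveI := hIY.2
    haveI := hIc.2
    obtain ⟨e⟩ := hIs.2.2 η hη
    have h1 : η ∈ CohB1.support (pb.obj I) := fun hs =>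
      one_ne_zero (e.symm.injective (@Subsingleton.elim _ hs (e.symm 1) (e.symm 0)))
    rw [Modules.SupportOps.support_pullback] at h1
    change η ∈ CohB1.support (pb.obj (kernel q))
    rw [Modules.SupportOps.support_pullback]
    intro hs
    refine h1 (subsingleton_of_forall_eq 0 fun u => smul_injective f hIf hirr.ne_zero _ u ?_)
    refine (hsm I _ u).symm.trans ?_
    rw [← hlι, hcomp, @Subsingleton.elim _ hs (Modules.StalkModule.stalkMapₗ l _ u) 0, map_zero]
  have hzero : ∀ η ∈ genericPoints Xs, η ∈ Y → Subsingleton (K.presheaf.stalk η) := fun η hη h =>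
    subsingleton_of_forall_eq 0 fun v =>
      (Modules.StalkModule.mono_iff_stalkMapₗ_injective κ).mp inferInstance η (by
        rw [map_zero]
        refine (Generic.bijective_stalk hIs hGY hη h).1 ?_
        rw [map_zero, ← hcomps, kernel.condition, Modules.StalkModule.stalkMapₗ_zero]
        rfl)
  have hjY : ∀ η ∈ genericPoints Xs, η ∈ Y →
      Function.Bijective (Modules.StalkModule.stalkMapₗ j η) := by
    intro η hη h
    have hsur : Function.Surjective (Modules.StalkModule.stalkMapₗ j η) := fun w =>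
      ((ShortComplex.ab_exact_iff_function_exact _).mp
        ((Modules.Stalk.exact_iff_stalk _).mp hjex η) w).mp
          (@Subsingleton.elim _ (hzero η hη h) _ _)
    refine ⟨(injective_iff_map_eq_zero _).mpr fun g hg => ?_, hsur⟩
    obtain ⟨e⟩ := hIs.2.2 η hη
    have hb := Generic.bijective_stalk hIs hGY hη h
    obtain ⟨v, rfl⟩ := hb.2 g
    by_contra hv0
    have hF : IsField (Xs.presheaf.stalk η) :=
      ModelFibre.MaxPoint.isField_stalk fun y hy => Flat55.GenericPoints.eq_of_specializes hη hy
    obtain ⟨c, hc⟩ := hF.mul_inv_cancel (a := e v) fun h0 => hv0 (by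
      rw [e.map_eq_zero_iff.mp h0, map_zero])
    refine hne η hη (subsingleton_of_forall_eq 0 fun w => ?_)
    obtain ⟨g', rfl⟩ := hsur w
    obtain ⟨v', rfl⟩ := hb.2 g'
    rw [show v' = (e v' * c) • v from e.injective (by
      rw [map_smul, smul_eq_mul, mul_assoc, mul_comm c, hc, mul_one]), map_smul, map_smul, hg,
      smul_zero]
  haveI := hMs.1
  haveI hjmono : Mono j := Generic.mono_of_generic hGY.2.2.1 j fun η hη => by
    by_cases h : η ∈ Y
    · exact (hjY η hη h).1
    · exact fun a b _ => @Subsingleton.elim _ (Generic.subsingleton_stalk hGY h) a b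
  have hex : (ShortComplex.mk j p hjp).ShortExact := { exact := hjex }
  refine ⟨⟨hMs, fun z => ⟨fun c hc => ?_⟩, fun η hη => ?_⟩, j, p, hjp, hex⟩
  · rw [isSMulRegular_iff_right_eq_zero_of_smul]
    intro v hv
    have hp0 : Modules.StalkModule.stalkMapₗ p z v = 0 :=
      ((hKT z).isSMulRegular hc).right_eq_zero_of_smul (by rw [← map_smul, hv, map_zero])
    obtain ⟨g, rfl⟩ := ((ShortComplex.ab_exact_iff_function_exact _).mp
      ((Modules.Stalk.exact_iff_stalk _).mp hjex z) v).mp hp0
    have hjinj := (Modules.StalkModule.mono_iff_stalkMapₗ_injective j).mp hjmono z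
    have : g = 0 := ((hGY.2.2.1 z).isSMulRegular hc).right_eq_zero_of_smul (hjinj (by
      rw [map_smul, map_zero]; exact hv))
    rw [this]; exact map_zero _
  · obtain ⟨e⟩ := hIs.2.2 η hη
    by_cases h : η ∈ Y
    · exact ⟨((LinearEquiv.ofBijective _ (hjY η hη h)).symm.trans
        (LinearEquiv.ofBijective _ (Generic.bijective_stalk hIs hGY hη h)).symm).trans e⟩
    · have hs := Generic.subsingleton_stalk hGY h
      have hpb : Function.Bijective (Modules.StalkModule.stalkMapₗ p η) := by
        refine ⟨(injective_iff_map_eq_zero _).mpr fun v hv => ?_,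
          (Modules.StalkModule.epi_iff_stalkMapₗ_surjective p).mp hpepi η⟩
        obtain ⟨g, rfl⟩ := ((ShortComplex.ab_exact_iff_function_exact _).mp
          ((Modules.Stalk.exact_iff_stalk _).mp hjex η) v).mp hv
        rw [show g = 0 from @Subsingleton.elim _ hs g 0]
        exact map_zero _
      have hκb : Function.Bijective (Modules.StalkModule.stalkMapₗ κ η) :=
        ⟨(Modules.StalkModule.mono_iff_stalkMapₗ_injective κ).mp inferInstance η, fun v =>
          ((ShortComplex.ab_exact_iff_function_exact _).mp ((Modules.Stalk.exact_iff_stalk _).mp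
            (ShortComplex.exact_of_f_is_kernel (ShortComplex.mk κ πY (kernel.condition πY))
              (kernelIsKernel πY)) η) v).mp (@Subsingleton.elim _ hs _ _)⟩
      exact ⟨((LinearEquiv.ofBijective _ hpb).trans (LinearEquiv.ofBijective _ hκb)).trans e⟩

end Groth.Agent.Lib.TFOne.Modification
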