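import Groth.Agent.Lib.TFOne.Generic
import Groth.Agent.Lib.Curves.GlobalSections

/-!
# Endomorphisms of torsion-free rank-one sheaves and simplicity
-/

set_option autoImplicit false
universe u

open CategoryTheory Limits AlgebraicGeometry Opposite TopologicalSpace

namespace Groth.Agent.Lib.TFOne.Simple

open Groth.Agent.Lib

variable {k : Type u} [Field k] {X : Scheme.{u}} [X.Over (Spec (CommRingCat.of k))]

/-- The structure map into a local ring. -/
noncomputable def base (x : X) : k →+* X.presheaf.stalk x :=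
  (X.presheaf.germ ⊤ x trivial).hom.comp (Coh.toGlobal (X ↘ Spec (CommRingCat.of k)))

lemma stalkMap_smulMod (M : X.Modules) (c : k) (x : X) (v : M.presheaf.stalk x) :
    Modules.StalkModule.stalkMapₗ (Formal.smulMod k M c) x v = base x c • v := by
  obtain ⟨U, hx, t, rfl⟩ := TopCat.Presheaf.exists_germ_eq M.presheaf v
  rw [Modules.StalkModule.stalkMapₗ_germ]
  change M.presheaf.germ U x hx
    (X.presheaf.map (homOfLE (le_top (a := U))).op
      (Coh.toGlobal (X ↘ Spec (CommRingCat.of k)) c) • t) = _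
  rw [Modules.StalkModule.germ_smul, TopCat.Presheaf.germ_res_apply]
  rfl

omit [X.Over (Spec (CommRingCat.of k))] in
/-- Morphisms into a torsion-free module agree when they agree at all generic points. -/
theorem eq_of_generic [IsReduced X] [IsLocallyNoetherian X] {M N : X.Modules} [N.IsQuasicoherent]
    (hT : TorSh.IsTorsionFree N) (f g : M ⟶ N)
    (h : ∀ η ∈ genericPoints X,
      Modules.StalkModule.stalkMapₗ f η = Modules.StalkModule.stalkMapₗ g η) : f = g := by
  refine sub_eq_zero.mp (Generic.eq_zero_of_generic hT (f - g) fun η hη => ?_)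
  have e := Modules.StalkModule.stalkMapₗ_add (f - g) g η
  rw [sub_add_cancel, h η hη] at e
  exact right_eq_add.mp e

/-- An endomorphism induced by a scalar on a quotient is that scalar at the generic points. -/
theorem eq_smul_of_quot [IsReduced X] {M G : X.Modules} {T : Set X} {π : M ⟶ G}
    (hM : TFOne.IsTF1 X M) (hG : TFOne.IsQuotOn X M T G π) {φ : M ⟶ M} {c : k}
    (h : π ≫ Formal.smulMod k G c = φ ≫ π) {η : X} (hη : η ∈ genericPoints X) (hT : η ∈ T)
    (v : M.presheaf.stalk η) : Modules.StalkModule.stalkMapₗ φ η v = base η c • v := by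
  refine (Generic.bijective_stalk hM hG hη hT).1 ?_
  rw [map_smul, ← LinearMap.comp_apply, ← Modules.StalkModule.stalkMapₗ_comp, ← h,
    Modules.StalkModule.stalkMapₗ_comp, LinearMap.comp_apply, stalkMap_smulMod]

/-- Gluing simplicity along a common component. -/
theorem isSimple_of_common [IsProper (X ↘ Spec (CommRingCat.of k))] [IsReduced X] {M : X.Modules}
    (hM : TFOne.IsTF1 X M) {Y Z : Set X} (hcov : Y ∪ Z = Set.univ)
    (hmeet : ∃ C ∈ irreducibleComponents (X : Type u), C ⊆ Y ∩ Z) {GY GZ : X.Modules}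
    {πY : M ⟶ GY} {πZ : M ⟶ GZ} (hGY : TFOne.IsQuotOn X M Y GY πY)
    (hGZ : TFOne.IsQuotOn X M Z GZ πZ)
    (hsY : TFOne.IsSimple X k (X ↘ Spec (CommRingCat.of k)) GY)
    (hsZ : TFOne.IsSimple X k (X ↘ Spec (CommRingCat.of k)) GZ) :
    TFOne.IsSimple X k (X ↘ Spec (CommRingCat.of k)) M := by
  have := LocallyOfFiniteType.isLocallyNoetherian (X ↘ Spec (CommRingCat.of k))
  obtain ⟨C, hC, hCYZ⟩ := hmeet
  obtain ⟨η, hη, hηC⟩ := Flat55.GenericPoints.exists_closure_eq hC
  have hmem : η ∈ closure ({η} : Set X) := subset_closure rfl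
  rw [hηC] at hmem
  have hηYZ := hCYZ hmem
  obtain ⟨e⟩ := hM.2.2 η hη
  refine ⟨fun h0 => ?_, fun φ => ?_⟩
  · have := Modules.Stalk.isZero_iff_stalk_subsingleton.mp h0 η
    exact one_ne_zero (e.symm.injective (Subsingleton.elim (e.symm 1) (e.symm 0)))
  have := hGY.2.1.1
  have := hGZ.2.1.1
  have := hM.1.1
  obtain ⟨gY, hgY⟩ := Generic.exists_factor hM hGY hGY.2.2.1 (φ ≫ πY) fun ζ _ h =>
    LinearMap.ext fun _ => @Subsingleton.elim _ (Generic.subsingleton_stalk hGY h) _ _
  obtain ⟨gZ, hgZ⟩ := Generic.exists_factor hM hGZ hGZ.2.2.1 (φ ≫ πZ) fun ζ _ h =>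
    LinearMap.ext fun _ => @Subsingleton.elim _ (Generic.subsingleton_stalk hGZ h) _ _
  obtain ⟨a, rfl⟩ := hsY.2 gY
  obtain ⟨b, rfl⟩ := hsZ.2 gZ
  have hab : a = b := by
    have h1 := eq_smul_of_quot hM hGY hgY hη hηYZ.1 (e.symm 1)
    have h2 := eq_smul_of_quot hM hGZ hgZ hη hηYZ.2 (e.symm 1)
    have h3 := congrArg e (h1.symm.trans h2)
    simp only [map_smul, LinearEquiv.apply_symm_apply, smul_eq_mul, mul_one] at h3
    exact RingHom.injective (base η) h3
  subst hab
  refine ⟨a, eq_of_generic hM.2.1 _ _ fun ζ hζ => LinearMap.ext fun v => ?_⟩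
  rw [stalkMap_smulMod]
  rcases hcov.ge (Set.mem_univ ζ) with h | h
  · exact eq_smul_of_quot hM hGY hgY hζ h v
  · exact eq_smul_of_quot hM hGZ hgZ hζ h v

end Groth.Agent.Lib.TFOne.Simple
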