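import Groth.Agent.Lib.TFOne.ModBeta
import Groth.Agent.Lib.Cyc.FP.Stalk
import Groth.Agent.Lib.QCoh.Pullback

/-!
# A torsion-free quotient viewed on its own subcurve
-/

set_option autoImplicit false
universe u

open CategoryTheory Limits AlgebraicGeometry Opposite TopologicalSpace

namespace Groth.Agent.Lib.TFOne.SubQuot

open Groth.Agent.Lib
open Groth.Agent.Lib.DerivedOX.PullbackStalk (pushStalkMap pushStalkMap_smul)

variable {X : Scheme.{u}}

section

variable [IsReduced X] [IsLocallyNoetherian X] {T : Set X} (hT : IsClosed T)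

/-- A sheaf with torsion-free push-forward from a union of components is torsion-free. -/
theorem isTorsionFree_of_push (hs : Push.IsUnion T) {J : (VecSt.subsch X T hT).Modules}
    (hJ : TorSh.IsTorsionFree ((Coh.push (VecSt.subschι X T hT)).obj J)) : TorSh.IsTorsionFree J := by
  intro z
  let ι := VecSt.subschι X T hT
  refine ⟨fun c hc => ?_⟩
  rw [isSMulRegular_iff_right_eq_zero_of_smul]
  intro v hv
  have hb := PushClosed.Unit.bijective_pushStalkMap ι J z
  obtain ⟨a, rfl⟩ := hb.2 v
  obtain ⟨c₀, rfl⟩ := ι.stalkMap_surjective z c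
  suffices a = 0 by rw [this, map_zero]
  let A := X.presheaf.stalk (ι z)
  let M := ((Coh.push ι).obj J).presheaf.stalk (ι z)
  let Ann : Ideal A := LinearMap.ker (LinearMap.toSpanSingleton A M a)
  have hc₀ : c₀ ∈ Ann := hb.1 (by
    rw [LinearMap.toSpanSingleton_apply, pushStalkMap_smul, map_zero]; exact hv)
  have hker : RingHom.ker (ι.stalkMap z).hom ≤ Ann := fun t ht => hb.1 (by
    rw [LinearMap.toSpanSingleton_apply, pushStalkMap_smul, RingHom.mem_ker.mp ht, zero_smul,
      map_zero])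
  obtain ⟨t, htA, htr⟩ := Generic.exists_mem_nonZeroDivisors Ann fun q hq hle => by
    have hqp : q.IsPrime := Ideal.minimalPrimes_isPrime hq
    have hsurj : Function.Surjective (ι.stalkMap z).hom := ι.stalkMap_surjective z
    have hkq : RingHom.ker (ι.stalkMap z).hom ≤ q := hker.trans hle
    have hq' : q.map (ι.stalkMap z).hom ∈ minimalPrimes ((VecSt.subsch X T hT).presheaf.stalk z) := by
      refine ⟨⟨Ideal.map_isPrime_of_surjective hsurj hkq, bot_le⟩, fun p hp hpq => ?_⟩
      have := hp.1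
      have h1 : p.comap (ι.stalkMap z).hom ≤ q := by
        refine (Ideal.comap_mono hpq).trans ?_
        rw [Ideal.comap_map_of_surjective _ hsurj, ← RingHom.ker_eq_comap_bot]
        exact sup_le le_rfl hkq
      have h2 := hq.2 ⟨Ideal.comap_isPrime _ p, bot_le⟩ h1
      rw [← Ideal.map_comap_of_surjective _ hsurj p]
      exact Ideal.map_mono h2
    exact Set.disjoint_left.mp (Ideal.disjoint_nonZeroDivisors_of_mem_minimalPrimes hq')
      (Ideal.mem_map_of_mem _ (hle hc₀)) (isRegular_iff_mem_nonZeroDivisors.mp hc)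
  exact ((hJ (ι z)).isSMulRegular (isRegular_iff_mem_nonZeroDivisors.mpr htr)).right_eq_zero_of_smul
    (LinearMap.mem_ker.mp htA)

/-- A torsion-free quotient on `T` is the push-forward of its restriction. -/
theorem isIso_unit {M G : X.Modules} {π : M ⟶ G} (hG : TFOne.IsQuotOn X M T G π) :
    IsIso ((Scheme.Modules.pullbackPushforwardAdjunction (VecSt.subschι X T hT)).unit.app G) := by
  let u := (Scheme.Modules.pullbackPushforwardAdjunction (VecSt.subschι X T hT)).unit.app G
  haveI := hG.2.1.1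
  haveI hepi : Epi u := PushClosed.Unit.epi_unit (VecSt.subschι X T hT) G
  haveI hmono : Mono u := Generic.mono_of_generic hG.2.2.1 u fun η hη => by
    by_cases h : η ∈ T
    · obtain ⟨z, rfl⟩ := (Push.range_subschι hT).ge h
      refine (injective_iff_map_eq_zero _).mpr fun a ha => ?_
      have h1 := Cyc.Dev.SchemeCase.stalk_kernel_unit_le (VecSt.subschι X T hT) G z a ha
      have hF : IsField (X.presheaf.stalk (VecSt.subschι X T hT z)) :=
        ModelFibre.MaxPoint.isField_stalk fun y hy => Flat55.GenericPoints.eq_of_specializes hη hy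
      letI := hF.toField
      rw [(Ideal.eq_bot_or_top (RingHom.ker ((VecSt.subschι X T hT).stalkMap z).hom)).resolve_right
        (RingHom.ker_ne_top _), Submodule.bot_smul] at h1
      exact (Submodule.mem_bot _).mp h1
    · exact fun a b _ => @Subsingleton.elim _ (Generic.subsingleton_stalk hG h) a b
  exact isIso_of_mono_of_epi u

/-- The restriction of the quotient on `T` is torsion-free of rank one. -/
theorem isTF1_pullback (hs : Push.IsUnion T) {M G : X.Modules} {π : M ⟶ G}
    (hM : TFOne.IsTF1 X M) (hG : TFOne.IsQuotOn X M T G π) :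
    TFOne.IsTF1 (VecSt.subsch X T hT)
      ((Scheme.Modules.pullback (VecSt.subschι X T hT)).obj G) := by
  let ι := VecSt.subschι X T hT
  let u : G ⟶ (Scheme.Modules.pushforward ι).obj ((Scheme.Modules.pullback ι).obj G) :=
    (Scheme.Modules.pullbackPushforwardAdjunction ι).unit.app G
  haveI hu : IsIso u := isIso_unit hT hG
  have hc := Cyc.FP.Stalk.isCoh_pullback ι hG.2.1
  have hbij := (Modules.StalkModule.isIso_iff_stalkMapₗ_bijective u).mp hu
  refine ⟨hc, isTorsionFree_of_push hT hs fun x => ?_, fun ζ hζ => ?_⟩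
  · have := hG.2.2.1 x
    let e := LinearEquiv.ofBijective _ (hbij x)
    exact e.symm.injective.moduleIsTorsionFree _ fun c v => map_smul _ c v
  · have hη := Push.mem_genericPoints hT hs hζ
    have hηT : ι ζ ∈ T := (Push.range_subschι hT).le ⟨ζ, rfl⟩
    obtain ⟨e⟩ := hM.2.2 (ι ζ) hη
    have hπ := Generic.bijective_stalk hM hG hη hηT
    have hb := PushClosed.Unit.bijective_pushStalkMap ι ((Scheme.Modules.pullback ι).obj G) ζ
    let v₀ := pushStalkMap ι ζ _ (Modules.StalkModule.stalkMapₗ u (ι ζ)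
      (Modules.StalkModule.stalkMapₗ π (ι ζ) (e.symm 1)))
    have hv₀ : v₀ ≠ 0 := fun h => by
      have h1 := (hbij (ι ζ)).1 ((hb.1 (h.trans (map_zero _).symm)).trans (map_zero _).symm)
      exact one_ne_zero (e.symm.injective ((hπ.1 (h1.trans (map_zero _).symm)).trans
        (map_zero e.symm).symm))
    refine ⟨(LinearEquiv.ofBijective (LinearMap.toSpanSingleton _ _ v₀)
      ⟨(injective_iff_map_eq_zero _).mpr fun c hc0 => ?_, fun v => ?_⟩).symm⟩
    · by_contra hne
      have hF : IsField ((VecSt.subsch X T hT).presheaf.stalk ζ) :=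
        ModelFibre.MaxPoint.isField_stalk fun y hy => Flat55.GenericPoints.eq_of_specializes hζ hy
      obtain ⟨d, hd⟩ := hF.mul_inv_cancel hne
      refine hv₀ ?_
      have := congrArg (d • ·) hc0
      simp only [LinearMap.toSpanSingleton_apply, smul_zero, smul_smul, mul_comm d, hd, one_smul] at this
      exact this
    · obtain ⟨b, rfl⟩ := hb.2 v
      obtain ⟨g, rfl⟩ := (hbij (ι ζ)).2 b
      obtain ⟨m, rfl⟩ := hπ.2 g
      refine ⟨(ι.stalkMap ζ).hom (e m), ?_⟩
      rw [LinearMap.toSpanSingleton_apply]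
      refine (pushStalkMap_smul ι ζ _ (e m) _).symm.trans ?_
      rw [← map_smul, ← map_smul]
      congr 3
      exact e.injective (by simp)

end

variable {k : Type u} [Field k] [X.Over (Spec (CommRingCat.of k))]
  [IsProper (X ↘ Spec (CommRingCat.of k))] [IsReduced X]

/-- A quotient of `G|_Y` on a subcurve `T'` of `Y` gives the quotient of `M` on the image of `T'`,
with the same β-number. -/
theorem exists_beta_push {Y : Set X} (hY : IsClosed Y) (hYu : Push.IsUnion Y) {M GY : X.Modules}
    {πY : M ⟶ GY} (hGY : TFOne.IsQuotOn X M Y GY πY) {E : X.Modules} {r : ℕ}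
    (hE : FlatMod.IsFinLocFreeOfRank r E) {T' : Set (VecSt.subsch X Y hY)} (hT' : IsClosed T')
    (hT's : VecSt.IsSubcurve (VecSt.subsch X Y hY) T') {G' : (VecSt.subsch X Y hY).Modules}
    {π' : (Scheme.Modules.pullback (VecSt.subschι X Y hY)).obj GY ⟶ G'}
    (hG' : TFOne.IsQuotOn (VecSt.subsch X Y hY)
      ((Scheme.Modules.pullback (VecSt.subschι X Y hY)).obj GY) T' G' π') :
    ∃ (T : Set X) (hT : IsClosed T), VecSt.IsSubcurve X T ∧ (T = Set.univ → T' = Set.univ) ∧
      ∃ (G : X.Modules) (π : M ⟶ G), TFOne.IsQuotOn X M T G π ∧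
        TFOne.rBeta (VecSt.subsch X Y hY) k
            (VecSt.subschι X Y hY ≫ (X ↘ Spec (CommRingCat.of k))) T' hT'
            ((Scheme.Modules.pullback (VecSt.subschι X Y hY)).obj E) r G' =
          TFOne.rBeta X k (X ↘ Spec (CommRingCat.of k)) T hT E r G := by
  have := LocallyOfFiniteType.isLocallyNoetherian (X ↘ Spec (CommRingCat.of k))
  let ι := VecSt.subschι X Y hY
  let S := VecSt.subsch X Y hY
  letI : S.Over (Spec (CommRingCat.of k)) := ⟨ι ≫ (X ↘ Spec (CommRingCat.of k))⟩
  haveI : IsProper (S ↘ Spec (CommRingCat.of k)) :=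
    inferInstanceAs (IsProper (ι ≫ (X ↘ Spec (CommRingCat.of k))))
  haveI : IsLocallyNoetherian S := LocallyOfFiniteType.isLocallyNoetherian ι
  have hcl := ι.isClosedEmbedding
  let T : Set X := ι '' T'
  have hTc : IsClosed T := hcl.isClosedMap _ hT'
  have hTs : VecSt.IsSubcurve X T := by
    obtain ⟨𝒮, h𝒮, hne, hTeq⟩ := hT's
    refine ⟨(fun C => ι '' C) '' 𝒮, ?_, hne.image _, ?_⟩
    · rintro _ ⟨C, hC, rfl⟩
      obtain ⟨ζ, hζ, hζC⟩ := Flat55.GenericPoints.exists_closure_eq (h𝒮 hC)
      have hg := Push.mem_genericPoints hY hYu hζ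
      change closure {ι ζ} ∈ irreducibleComponents (X : Type u) at hg
      rw [← Set.image_singleton (f := ι), hcl.closure_image_eq, hζC] at hg
      exact hg
    · rw [show T = ι '' ⋃₀ 𝒮 from congrArg (ι '' ·) hTeq, Set.image_sUnion]
  have hT'u : Push.IsUnion T' := Push.isUnion_of_isSubcurve hT's
  refine ⟨T, hTc, hTs, fun h => Set.eq_univ_of_forall fun z => ?_, ?_⟩
  · obtain ⟨z', hz', he⟩ := (Set.ext_iff.mp h (ι z)).mpr trivial
    rwa [← hcl.injective he]
  have hsupp : ∀ (J : S.Modules), CohB1.support ((Coh.push ι).obj J) = ι '' CohB1.support J := by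
    intro J
    ext x
    constructor
    · intro hx
      by_cases h : x ∈ Y
      · obtain ⟨z, rfl⟩ := (Push.range_subschι hY).ge h
        refine ⟨z, fun hs => hx ?_, rfl⟩
        exact (PushClosed.Unit.bijective_pushStalkMap ι J z).1.subsingleton
      · exact absurd (Push.subsingleton_push hY J h) hx
    · rintro ⟨z, hz, rfl⟩ hs
      exact hz (PushClosed.Unit.bijective_pushStalkMap ι J z).2.subsingleton
  let pf := Scheme.Modules.pushforward ι
  haveI hu := isIso_unit hY hGY
  haveI := hGY.1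
  haveI := hG'.1
  haveI := hG'.2.1.1
  haveI hpf : Epi (pf.map π') := pf.map_epi π'
  let π : M ⟶ pf.obj G' :=
    πY ≫ (Scheme.Modules.pullbackPushforwardAdjunction ι).unit.app GY ≫ pf.map π'
  have hG : TFOne.IsQuotOn X M T (pf.obj G') π :=
    ⟨inferInstance, Cyc.Dev.SchemeEquiv.isCoh_push ι hG'.2.1,
      Push.isTorsionFree_push hY hYu hG'.2.2.1, (hsupp G').trans (by rw [hG'.2.2.2])⟩
  refine ⟨pf.obj G', π, hG, ?_⟩
  have hE' := TensorMod.LocFree.rank_pullback ι hE
  have hQ' := EDeg.isQuotOn_OT (X := S) hT' hT'u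
  haveI := hQ'.2.1.1
  -- two descriptions of the structure sheaf of `T`
  have hO1 := EDeg.isQuotOn_OT (X := X) hY hYu
  haveI := hO1.1
  haveI := hQ'.1
  haveI hpf2 : Epi (pf.map (EDeg.toOT (X := S) hT')) := pf.map_epi _
  have hO2 : TFOne.IsQuotOn X (Coh.structureModule X) T (pf.obj (EDeg.OT hT'))
      (EDeg.toOT hY ≫ pf.map (EDeg.toOT (X := S) hT')) :=
    ⟨@epi_comp _ _ _ _ _ _ hO1.1 _ hpf2, Cyc.Dev.SchemeEquiv.isCoh_push ι hQ'.2.1,
      Push.isTorsionFree_push hY hYu hQ'.2.2.1, (hsupp _).trans (by rw [hQ'.2.2.2])⟩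
  obtain ⟨eO⟩ := ModBeta.iso_of_quot (EDeg.isTF1_structure (X := X)) hO2
    (EDeg.isQuotOn_OT hTc (Push.isUnion_of_isSubcurve hTs))
  have hD : EDeg.D k ((Scheme.Modules.pullback ι).obj E) r (EDeg.OT hT') =
      EDeg.D k E r (pf.obj (EDeg.OT hT')) := by
    have hdb := Modules.DualBasis.hasDBases_of_isFinLocFree (TensorMod.LocFree.of_rank hE)
    have e : CohB1.tensorMod E (pf.obj (EDeg.OT hT')) ≅
        pf.obj (CohB1.tensorMod ((Scheme.Modules.pullback ι).obj E) (EDeg.OT hT')) :=
      (Modules.ProjFormula.projIso ι hdb).app (EDeg.OT hT')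
    haveI := (RefHull.Tensor.isCoh_tensorMod
      (CurveBundle.Coherent.isCoh (TensorMod.LocFree.of_rank hE')) hQ'.2.1).1
    rw [EDeg.D, EDeg.D, Curves.Euler.euler_eq_of_iso e, SurfInt.Push.euler_push ι rfl,
      SurfInt.Push.euler_push ι rfl]
  rw [ModBeta.rBeta_eq (k := k) hTc hE]
  refine (ModBeta.rBeta_eq (k := k) (X := S) hT' hE' G').trans ?_
  rw [hD, ModBeta.D_congr (k := k) (E := E) (r := r) eO, SurfInt.Push.euler_push ι rfl]

end Groth.Agent.Lib.TFOne.SubQuot
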